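import Cfsg.Agent.H426.FC.Defs

/-!
# S3618, part B: elements of order `p` with minimal support in a 2-closed group (L1 - L5)
-/

set_option autoImplicit false

open Equiv Equiv.Perm MulAction

namespace Cfsg.Agent.H426.FC

universe u

theorem one_mem_of_coprime (Y : AddSubgroup ℤ) {m n : ℤ} (hm : m ∈ Y) (hn : n ∈ Y) (h : IsCoprime m n) :
    (1 : ℤ) ∈ Y := by
  obtain ⟨a, b, hab⟩ := h
  rw [← hab]
  refine Y.add_mem ?_ ?_
  · rw [← smul_eq_mul]
    exact Y.zsmul_mem hm a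
  · rw [← smul_eq_mul]
    exact Y.zsmul_mem hn b

section

variable {Ω : Type u}

/-- the exponents `n` with `t ^ n a ∈ ⟨x⟩ a` -/
def expo (x t : Perm Ω) (h : Commute x t) (a : Ω) : AddSubgroup ℤ where
  carrier := {n | ∃ i : ℤ, (t ^ n) a = (x ^ i) a}
  zero_mem' := ⟨0, by simp⟩
  add_mem' := by
    rintro m n ⟨i, hi⟩ ⟨j, hj⟩
    refine ⟨j + i, ?_⟩
    have hc : Commute (x ^ j) (t ^ m) := (h.zpow_zpow j m)
    calc (t ^ (m + n)) a = (t ^ m) ((t ^ n) a) := by rw [zpow_add, Perm.mul_apply]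
      _ = (t ^ m * x ^ j) a := by rw [hj, Perm.mul_apply]
      _ = (x ^ j * t ^ m) a := by rw [hc.eq]
      _ = (x ^ j) ((x ^ i) a) := by rw [Perm.mul_apply, hi]
      _ = (x ^ (j + i)) a := by rw [zpow_add, Perm.mul_apply]
  neg_mem' := by
    rintro m ⟨i, hi⟩
    refine ⟨-i, ?_⟩
    have hc : Commute (x ^ (-i)) (t ^ (-m)) := (h.zpow_zpow (-i) (-m))
    calc (t ^ (-m)) a = (t ^ (-m) * x ^ (-i)) ((x ^ i) a) := by
            rw [Perm.mul_apply, ← Perm.mul_apply (x ^ (-i)), ← zpow_add, neg_add_cancel, zpow_zero, Perm.one_apply]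
      _ = (x ^ (-i) * t ^ (-m)) ((t ^ m) a) := by rw [hc.eq, hi]
      _ = (x ^ (-i)) a := by
            rw [Perm.mul_apply, ← Perm.mul_apply (t ^ (-m)), ← zpow_add, neg_add_cancel, zpow_zero, Perm.one_apply]

theorem mem_expo {x t : Perm Ω} {h : Commute x t} {a : Ω} {n : ℤ} :
    n ∈ expo x t h a ↔ ∃ i : ℤ, (t ^ n) a = (x ^ i) a := Iff.rfl

theorem coprime_of_lt {p : ℕ} (hp : p.Prime) {k : ℤ} (h0 : k ≠ 0) (h1 : -p < k) (h2 : k < p) : IsCoprime k (p : ℤ) := by
  rw [Int.isCoprime_iff_gcd_eq_one, Int.gcd_comm, ← Int.isCoprime_iff_gcd_eq_one]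
  rw [Prime.coprime_iff_not_dvd (Nat.prime_iff_prime_int.1 hp)]
  intro hd
  have := Int.le_of_dvd (abs_pos.2 h0) ((dvd_abs _ _).2 hd)
  rcases abs_cases k with ⟨h, _⟩ | ⟨h, _⟩ <;> omega

/-- if `x ^ p = 1` and `x ^ k a = a` with `p ∤ k` then `x a = a` -/
theorem fixed_of_zpow {p : ℕ} {x : Perm Ω} (hx : x ^ p = 1) {k : ℤ} (hk : IsCoprime k (p : ℤ)) {a : Ω}
    (h : (x ^ k) a = a) : x a = a := by
  have h1 : (1 : ℤ) ∈ expo (1 : Perm Ω) x (Commute.one_left x) a := by
    refine one_mem_of_coprime _ (m := k) (n := p) ⟨0, by simpa using h⟩ ⟨0, ?_⟩ hk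
    rw [zpow_natCast, hx, zpow_zero]
  obtain ⟨i, hi⟩ := h1
  simpa using hi

variable [Fintype Ω] [DecidableEq Ω]

/-- Lemma C -/
theorem exists_zpow {p : ℕ} (hp : p.Prime) {x t : Perm Ω} (hx : x ^ p = 1) (hs : x.support.card < p ^ 2)
    (h : Commute x t) (ht : ∃ i : ℤ, t ^ p = x ^ i) {a : Ω} (ha : x a ≠ a) : ∃ i : ℤ, t a = (x ^ i) a := by
  by_contra hno
  have h1 : (1 : ℤ) ∉ expo x t h a := by
    rintro ⟨i, hi⟩
    exact hno ⟨i, by simpa using hi⟩
  have hpY : (p : ℤ) ∈ expo x t h a := by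
    obtain ⟨i, hi⟩ := ht
    exact ⟨i, by rw [zpow_natCast, hi]⟩
  have hnot : ∀ k : ℤ, IsCoprime k (p : ℤ) → k ∉ expo x t h a := fun k hk hk' =>
    h1 (one_mem_of_coprime _ hk' hpY hk)
  let f : Fin p × Fin p → x.support := fun ij => ⟨(t ^ (ij.2 : ℕ)) ((x ^ (ij.1 : ℕ)) a), by
    rw [mem_support, ← Perm.mul_apply, ← Perm.mul_apply, ← Perm.mul_apply]
    have hc : Commute x (t ^ (ij.2 : ℕ) * x ^ (ij.1 : ℕ)) := (h.pow_right _).mul_right (Commute.self_pow x _)
    rw [mul_assoc, hc.eq, Perm.mul_apply]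
    exact fun h' => ha ((t ^ (ij.2 : ℕ) * x ^ (ij.1 : ℕ)).injective h')⟩
  have hf : Function.Injective f := by
    rintro ⟨i, j⟩ ⟨i', j'⟩ hij
    have h2 : (t ^ (j : ℕ)) ((x ^ (i : ℕ)) a) = (t ^ (j' : ℕ)) ((x ^ (i' : ℕ)) a) := congrArg Subtype.val hij
    have h3 : (t ^ ((j : ℤ) - (j' : ℤ))) a = (x ^ ((i' : ℤ) - (i : ℤ))) a := by
      have hc1 : Commute (x ^ (-(i : ℤ))) (t ^ (-(j' : ℤ)) * t ^ (j : ℤ)) :=
        (h.zpow_zpow _ _).mul_right (h.zpow_zpow _ _)
      have h4 : (x ^ (-(i : ℤ)) * (t ^ (-(j' : ℤ)) * t ^ (j : ℤ)) * x ^ (i : ℤ)) a =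
          (x ^ (-(i : ℤ)) * t ^ (-(j' : ℤ)) * (t ^ (j' : ℤ) * x ^ (i' : ℤ))) a := by
        rw [zpow_natCast, zpow_natCast, zpow_natCast, zpow_natCast]
        simp only [Perm.mul_apply] at *
        rw [h2]
      rw [hc1.eq] at h4
      have e1 : t ^ (-(j' : ℤ)) * t ^ (j : ℤ) * x ^ (-(i : ℤ)) * x ^ (i : ℤ) = t ^ ((j : ℤ) - (j' : ℤ)) := by
        rw [mul_assoc, ← zpow_add x, neg_add_cancel, zpow_zero, mul_one, ← zpow_add]
        congr 1
        ring
      have e2 : x ^ (-(i : ℤ)) * t ^ (-(j' : ℤ)) * (t ^ (j' : ℤ) * x ^ (i' : ℤ)) = x ^ ((i' : ℤ) - (i : ℤ)) := by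
        rw [mul_assoc, ← mul_assoc (t ^ (-(j' : ℤ))), ← zpow_add t, neg_add_cancel, zpow_zero, one_mul, ← zpow_add]
        congr 1
        ring
      rw [e1, e2] at h4
      exact h4
    have hj : j = j' := by
      by_contra hne
      refine hnot ((j : ℤ) - (j' : ℤ)) (coprime_of_lt hp ?_ ?_ ?_) ⟨_, h3⟩
      · intro h5
        apply hne
        apply Fin.ext
        omega
      · have := j'.2
        omega
      · have := j.2
        omega
    subst hj
    have hi : i = i' := by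
      by_contra hne
      rw [sub_self, zpow_zero, Perm.one_apply] at h3
      apply ha
      refine fixed_of_zpow hx (k := (i' : ℤ) - (i : ℤ)) (coprime_of_lt hp ?_ ?_ ?_) h3.symm
      · intro h5
        apply hne
        apply Fin.ext
        omega
      · have := i.2
        omega
      · have := i'.2
        omega
    rw [hi]
  have hcard := Fintype.card_le_of_injective f hf
  rw [Fintype.card_prod, Fintype.card_fin, Fintype.card_coe] at hcard
  rw [pow_two] at hs
  omega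

/-- L1: two elements of order `p` with small support in a `p`-group commute -/
theorem commute_of_isPGroup {p : ℕ} [Fact p.Prime] {P : Subgroup (Perm Ω)} (hP : IsPGroup p P) {x y : Perm Ω}
    (hx : x ∈ P) (hy : y ∈ P) (hxp : x ^ p = 1) (hyp : y ^ p = 1) (hxs : x.support.card < p ^ 2)
    (hys : y.support.card < p ^ 2) : Commute x y := by
  classical
  have hp : p.Prime := Fact.out
  apply Equiv.ext
  intro β
  let O : Set Ω := orbit P β
  let φ : P →* Perm O := toPermHom P O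
  have hφ : ∀ (g : P) (γ : O), ((φ g γ : O) : Ω) = (g : Perm Ω) (γ : Ω) := fun g γ => rfl
  let β' : O := ⟨β, mem_orbit_self β⟩
  rcases subsingleton_or_nontrivial (φ.range) with hsub | hnt
  · have h1 : ∀ g : P, ∀ γ : O, (g : Perm Ω) (γ : Ω) = γ := by
      intro g γ
      have h2 : (⟨φ g, g, rfl⟩ : φ.range) = 1 := Subsingleton.elim _ _
      have h3 : φ g = 1 := congrArg Subtype.val h2
      rw [← hφ, h3]
      rfl
    rw [Perm.mul_apply, Perm.mul_apply]
    have h2 := h1 ⟨y, hy⟩ β'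
    have h3 := h1 ⟨x, hx⟩ β'
    change y β = β at h2
    change x β = β at h3
    rw [h2, h3, h2]
  · have hR : IsPGroup p φ.range := hP.of_surjective φ.rangeRestrict φ.rangeRestrict_surjective
    have hZ : Nontrivial (Subgroup.center φ.range) := hR.center_nontrivial
    have hZp : IsPGroup p (Subgroup.center φ.range) := hR.to_subgroup _
    have hdvd : p ∣ Nat.card (Subgroup.center φ.range) := by
      obtain ⟨n, hn, hc⟩ := hZp.nontrivial_iff_card.1 hZ
      rw [hc]
      exact dvd_pow_self p (by omega)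
    obtain ⟨z, hz⟩ := exists_prime_orderOf_dvd_card' p hdvd
    obtain ⟨⟨_, ζ, rfl⟩, hcen⟩ := z
    have hzp : (φ ζ) ^ p = 1 := by
      have h1 := pow_orderOf_eq_one (⟨⟨φ ζ, ζ, rfl⟩, hcen⟩ : Subgroup.center φ.range)
      rw [hz] at h1
      exact congrArg (fun w : Subgroup.center φ.range => ((w : φ.range) : Perm O)) h1
    have hz1 : φ ζ ≠ 1 := by
      intro h
      have h1 : (⟨⟨φ ζ, ζ, rfl⟩, hcen⟩ : Subgroup.center φ.range) = 1 := by
        apply Subtype.ext
        apply Subtype.ext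
        exact h
      rw [h1, orderOf_one] at hz
      exact hp.one_lt.ne hz
    have hcomm : ∀ g : P, Commute (φ g) (φ ζ) := by
      intro g
      have h1 := Subgroup.mem_center_iff.1 hcen ⟨φ g, g, rfl⟩
      exact congrArg Subtype.val h1
    have hfree : ∀ γ : O, φ ζ γ ≠ γ := by
      intro γ hγ
      apply hz1
      apply Equiv.ext
      intro δ
      have hδ : ∃ g : P, g • (γ : Ω) = (δ : Ω) := by
        have h1 : (γ : Ω) ∈ orbit P β := γ.2
        have h2 : (δ : Ω) ∈ orbit P (γ : Ω) := by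
          rw [orbit_eq_iff.2 h1]
          exact δ.2
        exact h2
      obtain ⟨g, hg⟩ := hδ
      have hg' : φ g γ = δ := Subtype.ext hg
      rw [Perm.one_apply, ← hg', ← Perm.mul_apply, ← (hcomm g).eq, Perm.mul_apply, hγ]
    -- the restriction of an element with small support is locally a power of `ζ`
    have key : ∀ g : P, (g : Perm Ω) ^ p = 1 → (g : Perm Ω).support.card < p ^ 2 → ∀ γ : O,
        ∃ i : ℤ, φ g γ = (φ ζ ^ i) γ := by
      intro g hg hgs γ
      by_cases hm : φ g γ = γ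
      · exact ⟨0, by rw [zpow_zero, hm]; rfl⟩
      have hgp : φ g ^ p = 1 := by
        rw [← map_pow]
        have : g ^ p = 1 := Subtype.ext (by simpa using hg)
        rw [this, map_one]
      have hcard : (φ g).support.card < p ^ 2 := by
        refine lt_of_le_of_lt ?_ hgs
        refine Finset.card_le_card_of_injOn (fun γ : O => (γ : Ω)) ?_ (fun a _ b _ h => Subtype.ext h)
        intro δ hδ
        rw [Finset.mem_coe, mem_support] at hδ ⊢
        intro h
        exact hδ (Subtype.ext h)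
      obtain ⟨i, hi⟩ := exists_zpow hp hgp hcard (hcomm g) ⟨0, by rw [hzp, zpow_zero]⟩ hm
      -- `ζ γ = g ^ i γ`, so `i` is prime to `p`
      have hi0 : IsCoprime i (p : ℤ) := by
        rw [Int.isCoprime_iff_gcd_eq_one, Int.gcd_comm, ← Int.isCoprime_iff_gcd_eq_one,
          Prime.coprime_iff_not_dvd (Nat.prime_iff_prime_int.1 hp)]
        rintro ⟨k, hk⟩
        rw [hk, zpow_mul, zpow_natCast, hgp, one_zpow] at hi
        exact hfree γ hi
      have h1 : (1 : ℤ) ∈ expo (φ ζ) (φ g) (hcomm g).symm γ := by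
        refine one_mem_of_coprime _ (m := i) (n := p) ⟨1, ?_⟩ ⟨0, ?_⟩ hi0
        · rw [zpow_one, hi]
        · rw [zpow_natCast, hgp, zpow_zero]
      obtain ⟨j, hj⟩ := h1
      exact ⟨j, by simpa using hj⟩
    obtain ⟨i, hi⟩ := key ⟨x, hx⟩ hxp hxs β'
    obtain ⟨j, hj⟩ := key ⟨y, hy⟩ hyp hys β'
    have h1 : φ ⟨x, hx⟩ (φ ⟨y, hy⟩ β') = φ ⟨y, hy⟩ (φ ⟨x, hx⟩ β') := by
      have e1 : φ ⟨x, hx⟩ (φ ⟨y, hy⟩ β') = (φ ζ ^ j * φ ζ ^ i) β' := by
        rw [hj, ← Perm.mul_apply, ((hcomm ⟨x, hx⟩).zpow_right j).eq, Perm.mul_apply, Perm.mul_apply, hi]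
      have e2 : φ ⟨y, hy⟩ (φ ⟨x, hx⟩ β') = (φ ζ ^ i * φ ζ ^ j) β' := by
        rw [hi, ← Perm.mul_apply, ((hcomm ⟨y, hy⟩).zpow_right i).eq, Perm.mul_apply, Perm.mul_apply, hj]
      rw [e1, e2, (Commute.zpow_zpow_self (φ ζ) j i).eq]
    exact congrArg Subtype.val h1

/-- L2 -/
theorem exists_pow_of_commute {p : ℕ} (hp : p.Prime) {H : Subgroup (Perm Ω)} (hcl : TwoClosed H) {x y : Perm Ω}
    (hxH : x ∈ H) (hx : orderOf x = p) (hs : x.support.card < p ^ 2)
    (hmin : ∀ z ∈ H, orderOf z = p → x.support.card ≤ z.support.card) (hyH : y ∈ H) (hy : y ^ p = 1)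
    (hxy : Commute x y) : ∃ i : ℤ, ∀ a, x a ≠ a → y a = (x ^ i) a := by
  classical
  have hxp : x ^ p = 1 := by rw [← hx]; exact pow_orderOf_eq_one x
  have hx1 : x ≠ 1 := by
    intro h
    rw [h, orderOf_one] at hx
    exact hp.one_lt.ne hx
  obtain ⟨a0, ha0⟩ : ∃ a, x a ≠ a := by
    by_contra h
    push Not at h
    exact hx1 (Equiv.ext h)
  obtain ⟨i, hi⟩ := exists_zpow hp hxp hs hxy ⟨0, by rw [hy, zpow_zero]⟩ ha0
  refine ⟨i, ?_⟩
  set w : Perm Ω := x ^ (-i) * y with hw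
  have hxw : Commute x w := (Commute.self_zpow x _).mul_right hxy
  have hwp : w ^ p = 1 := by
    have hc : Commute (x ^ (-i)) y := hxy.zpow_left _
    rw [hw, hc.mul_pow, hy, mul_one, ← zpow_natCast, ← zpow_mul, mul_comm, zpow_mul, zpow_natCast, hxp, one_zpow]
  have hwa0 : w a0 = a0 := by
    rw [hw, Perm.mul_apply, hi, ← Perm.mul_apply, ← zpow_add, neg_add_cancel]
    rfl
  have hinv : ∀ a, w (x a) = x a ↔ w a = a := by
    intro a
    rw [← Perm.mul_apply, ← hxw.eq, Perm.mul_apply]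
    exact x.injective.eq_iff
  let σ : Perm Ω := Perm.ofSubtype (x.subtypePerm (p := fun a => w a = a) hinv)
  have hσ1 : ∀ a, w a = a → σ a = x a := by
    intro a ha
    exact Perm.ofSubtype_apply_of_mem (x.subtypePerm (p := fun a => w a = a) hinv) ha
  have hσ2 : ∀ a, w a ≠ a → σ a = a := by
    intro a ha
    exact Perm.ofSubtype_apply_of_not_mem (x.subtypePerm (p := fun a => w a = a) hinv) ha
  have hσp : σ ^ p = 1 := by
    change (Perm.ofSubtype (x.subtypePerm (p := fun a => w a = a) hinv)) ^ p = 1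
    rw [← map_pow]
    have h1 : (x.subtypePerm (p := fun a => w a = a) hinv) ^ p = 1 := by
      apply Equiv.ext
      intro a
      apply Subtype.ext
      rw [Perm.subtypePerm_pow]
      change (x ^ p) (a : Ω) = a
      rw [hxp]
      rfl
    rw [h1, map_one]
  have hσ : orderOf σ = p := by
    refine (Nat.dvd_prime hp).1 (orderOf_dvd_of_pow_eq_one hσp) |>.resolve_left ?_
    intro h
    rw [orderOf_eq_one_iff] at h
    have h1 := hσ1 a0 hwa0
    rw [h] at h1
    exact ha0 h1.symm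
  have hσH : σ ∈ H := by
    apply hcl
    intro a b
    -- one point in `supp w`, the other one in `Fix w`
    have mixed : ∀ a b : Ω, w a = a → w b ≠ b → ∃ h ∈ H, h a = x a ∧ h b = b := by
      intro a b ha hb
      by_cases hxb : x b = b
      · exact ⟨x, hxH, rfl, hxb⟩
      obtain ⟨j, hj⟩ := exists_zpow hp hxp hs hxw ⟨0, by rw [hwp, zpow_zero]⟩ hxb
      have hj0 : IsCoprime j (p : ℤ) := by
        rw [Int.isCoprime_iff_gcd_eq_one, Int.gcd_comm, ← Int.isCoprime_iff_gcd_eq_one,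
          Prime.coprime_iff_not_dvd (Nat.prime_iff_prime_int.1 hp)]
        rintro ⟨k, hk⟩
        rw [hk, zpow_mul, zpow_natCast, hxp, one_zpow] at hj
        exact hb hj
      obtain ⟨m, l, hml⟩ := hj0
      refine ⟨(w⁻¹ * x ^ j) ^ m, H.zpow_mem (H.mul_mem (H.inv_mem ?_) (H.zpow_mem hxH _)) _, ?_, ?_⟩
      · exact H.mul_mem (H.zpow_mem hxH _) hyH
      · have hc : Commute w⁻¹ (x ^ j) := (hxw.symm.inv_left).zpow_right j
        have hwa : (w⁻¹ ^ m) (x a) = x a := by
          have h1 : w (x a) = x a := (hinv a).2 ha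
          have h2 : w⁻¹ (x a) = x a := by
            rw [Perm.inv_eq_iff_eq]
            exact h1.symm
          exact (Perm.zpow_apply_eq_self_of_apply_eq_self h2 m)
        rw [hc.mul_zpow, Perm.mul_apply, ← zpow_mul]
        have h3 : x ^ (j * m) = x := by
          have h4 : j * m = 1 + p * (-l) := by linarith [mul_comm j m, mul_comm (p : ℤ) (-l), hml]
          rw [h4, zpow_add, zpow_one, zpow_mul, zpow_natCast, hxp, one_zpow, mul_one]
        rw [h3]
        exact hwa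
      · apply Perm.zpow_apply_eq_self_of_apply_eq_self
        rw [Perm.mul_apply, ← hj]
        exact w.symm_apply_apply b
    by_cases ha : w a = a <;> by_cases hb : w b = b
    · exact ⟨x, hxH, (hσ1 a ha).symm, (hσ1 b hb).symm⟩
    · obtain ⟨h, hh, h1, h2⟩ := mixed a b ha hb
      exact ⟨h, hh, by rw [h1, hσ1 a ha], by rw [h2, hσ2 b hb]⟩
    · obtain ⟨h, hh, h1, h2⟩ := mixed b a hb ha
      exact ⟨h, hh, by rw [h2, hσ2 a ha], by rw [h1, hσ1 b hb]⟩
    · exact ⟨1, H.one_mem, by rw [hσ2 a ha]; rfl, by rw [hσ2 b hb]; rfl⟩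
  have hle := hmin σ hσH hσ
  have hsub : σ.support ⊆ x.support := by
    intro a ha
    rw [mem_support] at ha ⊢
    by_cases hwa : w a = a
    · rw [hσ1 a hwa] at ha
      exact ha
    · exact absurd (hσ2 a hwa) ha
  have heq : σ.support = x.support := Finset.eq_of_subset_of_card_le hsub hle
  intro a ha
  have h1 : a ∈ σ.support := by rw [heq]; exact mem_support.2 ha
  have hwa : w a = a := by
    by_contra h
    exact mem_support.1 h1 (hσ2 a h)
  rw [hw, Perm.mul_apply] at hwa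
  have h2 := congrArg (x ^ i) hwa
  rw [← Perm.mul_apply, ← zpow_add, add_neg_cancel, zpow_zero] at h2
  exact h2

end

end Cfsg.Agent.H426.FC
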