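import Cfsg.Agent.H426.FC.Defs

/-!
# S3618, part B: the 2-closure, and the final geometry
-/

set_option autoImplicit false

open Equiv Equiv.Perm MulAction

namespace Cfsg.Agent.H426.FC

universe u

variable {Ω : Type u}

/-- the 2-closure -/
def cl2 (K : Subgroup (Perm Ω)) : Subgroup (Perm Ω) where
  carrier := {σ | ∀ a b : Ω, ∃ h ∈ K, h a = σ a ∧ h b = σ b}
  one_mem' := fun _ _ => ⟨1, K.one_mem, rfl, rfl⟩
  mul_mem' := by
    intro σ τ hσ hτ a b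
    obtain ⟨h, hh, h1, h2⟩ := hτ a b
    obtain ⟨g, hg, g1, g2⟩ := hσ (τ a) (τ b)
    exact ⟨g * h, K.mul_mem hg hh, by rw [Perm.mul_apply, h1, g1, Perm.mul_apply],
      by rw [Perm.mul_apply, h2, g2, Perm.mul_apply]⟩
  inv_mem' := by
    intro σ hσ a b
    obtain ⟨h, hh, h1, h2⟩ := hσ (σ⁻¹ a) (σ⁻¹ b)
    refine ⟨h⁻¹, K.inv_mem hh, ?_, ?_⟩
    · rw [Perm.inv_eq_iff_eq, h1]
      exact (σ.apply_symm_apply a).symm
    · rw [Perm.inv_eq_iff_eq, h2]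
      exact (σ.apply_symm_apply b).symm

theorem le_cl2 (K : Subgroup (Perm Ω)) : K ≤ cl2 K := fun σ hσ _ _ => ⟨σ, hσ, rfl, rfl⟩

theorem twoClosed_cl2 (K : Subgroup (Perm Ω)) : TwoClosed (cl2 K) := by
  intro σ hσ a b
  obtain ⟨h, hh, h1, h2⟩ := hσ a b
  obtain ⟨g, hg, g1, g2⟩ := hh a b
  exact ⟨g, hg, g1.trans h1, g2.trans h2⟩

/-- an overgroup of a primitive group is primitive -/
theorem isPreprimitive_of_le {K H : Subgroup (Perm Ω)} (h : K ≤ H) (hK : IsPreprimitive K Ω) : IsPreprimitive H Ω := by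
  let f : Ω →ₑ[Subgroup.inclusion h] Ω := { toFun := id, map_smul' := fun _ _ => rfl }
  exact IsPreprimitive.of_surjective (f := f) Function.surjective_id

theorem not_two_cl2 {K : Subgroup (Perm Ω)} (h : ¬ IsMultiplyPretransitive K Ω 2) :
    ¬ IsMultiplyPretransitive (cl2 K) Ω 2 := by
  intro h2
  apply h
  rw [is_two_pretransitive_iff] at h2 ⊢
  intro a b c d hab hcd
  obtain ⟨⟨σ, hσ⟩, h1, h3⟩ := h2 hab hcd
  obtain ⟨g, hg, g1, g2⟩ := hσ a b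
  exact ⟨⟨g, hg⟩, g1.trans h1, g2.trans h3⟩

/-- a primitive group containing the alternating group of degree at least 4 is 2-transitive -/
theorem two_of_alt [Fintype Ω] [DecidableEq Ω] {K : Subgroup (Perm Ω)} (h : alternatingGroup Ω ≤ K)
    (h4 : 4 ≤ Fintype.card Ω) : IsMultiplyPretransitive K Ω 2 := by
  have h1 : IsMultiplyPretransitive (alternatingGroup Ω) Ω (Nat.card Ω - 2) :=
    alternatingGroup.isMultiplyPretransitive Ω
  have h2 : IsMultiplyPretransitive (alternatingGroup Ω) Ω 2 := by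
    refine isMultiplyPretransitive_of_le (n := Nat.card Ω - 2) ?_ ?_
    · rw [Nat.card_eq_fintype_card]; omega
    · rw [Nat.card_eq_fintype_card]
      exact Nat.sub_le _ _
  rw [is_two_pretransitive_iff] at h2 ⊢
  intro a b c d hab hcd
  obtain ⟨⟨g, hg⟩, h3, h5⟩ := h2 hab hcd
  exact ⟨⟨g, h hg⟩, h3, h5⟩

/-- GEOM -/
theorem no_geometry (XX : Set (Perm Ω))
    (P1 : ∀ a b y : Ω, a ≠ b → a ≠ y → b ≠ y → (∀ x ∈ XX, x a = a → x b = b → x y = y) →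
      ∀ x ∈ XX, x a = a → x y = y → x b = b)
    (P2 : ∀ a b : Ω, a ≠ b → ∃ y, y ≠ a ∧ y ≠ b ∧ ∀ x ∈ XX, x a = a → x b = b → x y = y)
    (P3 : ∀ a b b' y : Ω, b ≠ a → b' ≠ a → y ≠ a → (∀ x ∈ XX, x a = a → x b = b → x b' = b' → x y = y) →
      (∀ x ∈ XX, x a = a → x b = b → x y = y) ∨ (∀ x ∈ XX, x a = a → x b' = b' → x y = y))
    (P4 : ∃ a b b' : Ω, b ≠ a ∧ b' ≠ a ∧ b ≠ b' ∧ ∃ x ∈ XX, x a = a ∧ x b = b ∧ x b' ≠ b') : False := by
  obtain ⟨a, b, b', hb, hb', hbb, x, hx, hxa, hxb, hxb'⟩ := P4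
  -- `b'` is not in `F a b`
  have hnot : ¬ ∀ x ∈ XX, x a = a → x b = b → x b' = b' := fun h => hxb' (h x hx hxa hxb)
  obtain ⟨y, hyb, hyb', hy⟩ := P2 b b' hbb
  -- `y ≠ a`
  have hya : y ≠ a := by
    rintro rfl
    exact hnot fun x hx h1 h2 => P1 b b' y hbb (Ne.symm hyb) (Ne.symm hyb') hy x hx h2 h1
  -- `b' ∈ F (b, y)` and `b ∈ F (b', y)`
  have h1 := P1 b b' y hbb (Ne.symm hyb) (Ne.symm hyb') hy
  have h2 := P1 b' b y (Ne.symm hbb) (Ne.symm hyb') (Ne.symm hyb) fun x hx h h' => hy x hx h' h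
  rcases P3 a b b' y hb hb' hya fun x hx _ h3 h4 => hy x hx h3 h4 with h | h
  · exact hnot fun x hx h3 h4 => h1 x hx h4 (h x hx h3 h4)
  · have h3 : ∀ x ∈ XX, x a = a → x b' = b' → x b = b := fun x hx h3 h4 => h2 x hx h4 (h x hx h3 h4)
    exact hnot (P1 a b' b (Ne.symm hb') (Ne.symm hb) (Ne.symm hbb) h3)

end Cfsg.Agent.H426.FC
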