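import Cfsg.Agent.H426.FC.MinElt
import Cfsg.Agent.H426.FC.TwoCl

/-!
# S3618, part B: counting over the orbits of `M_a`, and quotients
-/

set_option autoImplicit false
set_option linter.unusedSectionVars false

open Equiv Equiv.Perm MulAction

namespace Cfsg.Agent.H426.FC

universe u

/-- some orbit of `M` other than `{a}` has at least twice as many points as `S` has on it -/
theorem exists_orbit {Ω : Type u} [Fintype Ω] [DecidableEq Ω] (M : Subgroup (Perm Ω)) (a : Ω) (hM : ∀ m ∈ M, m a = a)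
    (S : Finset Ω) (ha : a ∉ S) (hS : ∀ b, b ≠ a → ∃ m ∈ M, m b ∈ S) (hn : 2 * S.card ≤ Fintype.card Ω)
    (h2 : ∃ b c, b ≠ a ∧ c ≠ a ∧ ∀ m ∈ M, m b ≠ c) :
    ∃ b, b ≠ a ∧ 2 * Nat.card {c // c ∈ S ∧ c ∈ orbit M b} ≤ Nat.card (orbit M b) ∧
      Nat.card {c // c ∈ S ∧ c ∈ orbit M b} < S.card := by
  classical
  let Q := Quotient (orbitRel M Ω)
  let π : Ω → Q := Quotient.mk _
  have hfin : Fintype Q := Fintype.ofFinite _
  let N : Q → ℕ := fun q => (Finset.univ.filter fun c => π c = q).card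
  let T : Q → ℕ := fun q => (S.filter fun c => π c = q).card
  have hπ : ∀ b c, π c = π b ↔ c ∈ orbit M b := by
    intro b c
    exact Quotient.eq''
  have hN : ∑ q, N q = Fintype.card Ω := by
    rw [← Finset.card_univ]
    exact (Finset.card_eq_sum_card_fiberwise (f := π) (fun c _ => Finset.mem_univ _)).symm
  have hT : ∑ q, T q = S.card := (Finset.card_eq_sum_card_fiberwise (f := π) (fun c _ => Finset.mem_univ _)).symm
  have hNb : ∀ b, N (π b) = Nat.card (orbit M b) := by
    intro b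
    rw [Nat.card_eq_fintype_card, Fintype.card_of_subtype (Finset.univ.filter fun c => π c = π b)]
    intro c
    rw [Finset.mem_filter]
    exact ⟨fun h => (hπ b c).1 h.2, fun h => ⟨Finset.mem_univ _, (hπ b c).2 h⟩⟩
  have hTb : ∀ b, T (π b) = Nat.card {c // c ∈ S ∧ c ∈ orbit M b} := by
    intro b
    rw [Nat.card_eq_fintype_card, Fintype.card_of_subtype (S.filter fun c => π c = π b)]
    intro c
    rw [Finset.mem_filter]
    exact ⟨fun h => ⟨h.1, (hπ b c).1 h.2⟩, fun h => ⟨h.1, (hπ b c).2 h.2⟩⟩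
  have hTpos : ∀ b, b ≠ a → 0 < T (π b) := by
    intro b hb
    obtain ⟨m, hm, hmb⟩ := hS b hb
    refine Finset.card_pos.2 ⟨m b, Finset.mem_filter.2 ⟨hmb, ?_⟩⟩
    rw [hπ]
    exact ⟨⟨m, hm⟩, rfl⟩
  have horb : ∀ b, π b = π a → b = a := by
    intro b hb
    obtain ⟨m, hm⟩ := (hπ a b).1 hb
    change (m : Perm Ω) a = b at hm
    rw [← hm]
    exact hM m m.2
  have hTa : T (π a) = 0 := by
    rw [Finset.card_eq_zero, Finset.filter_eq_empty_iff]
    intro c hc h
    rw [horb c h] at hc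
    exact ha hc
  have hNa : N (π a) = 1 := by
    rw [Finset.card_eq_one]
    refine ⟨a, ?_⟩
    ext c
    rw [Finset.mem_filter, Finset.mem_singleton]
    exact ⟨fun h => horb c h.2, fun h => ⟨Finset.mem_univ _, by rw [h]⟩⟩
  obtain ⟨b, c, hb, hc, hbc⟩ := h2
  have hπbc : π b ≠ π c := by
    intro h
    obtain ⟨m, hm⟩ := (hπ c b).1 h
    refine hbc m⁻¹ (M.inv_mem m.2) ?_
    rw [← hm]
    exact (m : Perm Ω).symm_apply_apply c
  have hab : π b ≠ π a := fun h => hb (horb b h)
  have hac : π c ≠ π a := fun h => hc (horb c h)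
  -- an orbit with many points
  have hex : ∃ q, q ≠ π a ∧ 2 * T q ≤ N q := by
    by_contra hno
    push Not at hno
    have h1 : ∑ q ∈ Finset.univ.erase (π a), (N q + 1) ≤ ∑ q ∈ Finset.univ.erase (π a), 2 * T q :=
      Finset.sum_le_sum fun q hq => hno q (Finset.ne_of_mem_erase hq)
    rw [Finset.sum_add_distrib, ← Finset.mul_sum, Finset.sum_const, smul_eq_mul, mul_one] at h1
    have h2 := Finset.add_sum_erase Finset.univ N (Finset.mem_univ (π a))
    have h3 := Finset.add_sum_erase Finset.univ T (Finset.mem_univ (π a))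
    rw [hN, hNa] at h2
    rw [hT, hTa, zero_add] at h3
    rw [h3] at h1
    have h4 : 2 ≤ (Finset.univ.erase (π a)).card := by
      refine Finset.one_lt_card.2 ⟨π b, ?_, π c, ?_, hπbc⟩
      · exact Finset.mem_erase.2 ⟨hab, Finset.mem_univ _⟩
      · exact Finset.mem_erase.2 ⟨hac, Finset.mem_univ _⟩
    omega
  obtain ⟨q, hqa, hq⟩ := hex
  obtain ⟨d, rfl⟩ : ∃ d, π d = q := Quotient.exists_rep q
  have hda : d ≠ a := fun h => hqa (by rw [h])
  refine ⟨d, hda, ?_, ?_⟩
  · rw [← hNb, ← hTb]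
    exact hq
  · rw [← hTb, ← hT]
    -- another orbit
    obtain ⟨e, hea, hed⟩ : ∃ e, e ≠ a ∧ π e ≠ π d := by
      by_cases h : π b = π d
      · exact ⟨c, hc, fun h' => hπbc (h.trans h'.symm)⟩
      · exact ⟨b, hb, h⟩
    rw [← Finset.add_sum_erase Finset.univ T (Finset.mem_univ (π d))]
    have h5 : T (π e) ≤ ∑ q ∈ Finset.univ.erase (π d), T q :=
      Finset.single_le_sum (f := T) (fun _ _ => Nat.zero_le _) (Finset.mem_erase.2 ⟨hed, Finset.mem_univ _⟩)
    have h6 := hTpos e hea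
    omega

/-- the points over a set under an equivariant map onto a transitive action -/
theorem card_over {G : Type*} [Group G] {Y B : Type*} [Fintype Y] [Fintype B] [DecidableEq B] [MulAction G Y]
    [MulAction G B] [IsPretransitive G B] (f : Y → B) (hf : ∀ (g : G) y, f (g • y) = g • f y) (β : B) :
    ∀ T : Finset B, Nat.card {y // f y ∈ T} = T.card * Nat.card {y // f y = β} := by
  classical
  have h1 : ∀ γ : B, Nat.card {y // f y = γ} = Nat.card {y // f y = β} := by
    intro γ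
    obtain ⟨g, hg⟩ := exists_smul_eq G γ β
    refine Nat.card_congr ⟨fun y => ⟨g • y.1, by rw [hf, y.2, hg]⟩, fun y => ⟨g⁻¹ • y.1, by
      rw [hf, y.2, ← hg, inv_smul_smul]⟩, ?_, ?_⟩
    · intro y
      exact Subtype.ext (inv_smul_smul _ _)
    · intro y
      exact Subtype.ext (smul_inv_smul _ _)
  intro T
  have h2 : Nat.card {y // f y ∈ T} = (Finset.univ.filter fun y => f y ∈ T).card := by
    rw [Nat.card_eq_fintype_card, Fintype.card_of_subtype (Finset.univ.filter fun y => f y ∈ T)]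
    intro y
    rw [Finset.mem_filter]
    exact ⟨fun h => h.2, fun h => ⟨Finset.mem_univ _, h⟩⟩
  have h3 := Finset.card_eq_sum_card_fiberwise (s := Finset.univ.filter fun y => f y ∈ T) (f := f) (t := T)
    (fun y hy => (Finset.mem_filter.1 (Finset.mem_coe.1 hy)).2)
  rw [h2, h3, ← smul_eq_mul, ← Finset.sum_const]
  refine Finset.sum_congr rfl fun γ hγ => ?_
  rw [← h1 γ, Nat.card_eq_fintype_card, Fintype.card_of_subtype]
  intro y
  rw [Finset.mem_filter, Finset.mem_filter]
  exact ⟨fun h => h.2, fun h => ⟨⟨Finset.mem_univ _, by rw [h]; exact hγ⟩, h⟩⟩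

end Cfsg.Agent.H426.FC
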