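import Mathlib

/-!
# S3618, part B: few cycles of length `p`; definitions
-/

set_option autoImplicit false

open Equiv Equiv.Perm MulAction

namespace Cfsg.Agent.H426.FC

universe u v

section

variable {Ω : Type u}

/-- `H` contains every permutation which agrees on every pair of points with an element of `H` -/
def TwoClosed (H : Subgroup (Perm Ω)) : Prop :=
  ∀ σ : Perm Ω, (∀ a b : Ω, ∃ h ∈ H, h a = σ a ∧ h b = σ b) → σ ∈ H

/-- `XX` is a nonempty set of permutations in `H`, invariant under conjugation with `H`, all of whose members move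
exactly `s` points, `2 ≤ s < |Ω|` -/
structure Fam [Fintype Ω] [DecidableEq Ω] (H : Subgroup (Perm Ω)) (XX : Set (Perm Ω)) (s : ℕ) : Prop where
  mem : ∀ x ∈ XX, x ∈ H
  conj : ∀ h ∈ H, ∀ x ∈ XX, h * x * h⁻¹ ∈ XX
  nonempty : XX.Nonempty
  card : ∀ x ∈ XX, x.support.card = s
  two_le : 2 ≤ s
  lt : s < Fintype.card Ω

/-- some member of `XX` which fixes `a` moves both `b` and `b'` -/
def Rel (XX : Set (Perm Ω)) (a b b' : Ω) : Prop := ∃ x ∈ XX, x a = a ∧ x b ≠ b ∧ x b' ≠ b'

/-- all 3-cycles on the set `S` are in `W` -/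
def A3 {B : Type v} [Fintype B] [DecidableEq B] (W : Subgroup (Perm B)) (S : Finset B) : Prop :=
  ∀ σ : Perm B, σ.IsThreeCycle → σ.support ⊆ S → σ ∈ W

end

end Cfsg.Agent.H426.FC
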