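import Cfsg.Agent.H355.FC.Alt

/-!
# S3618, part B: KAPPA
-/

set_option autoImplicit false

open Equiv Equiv.Perm MulAction

namespace Cfsg.Agent.H426.FC

universe u v

theorem A3.mono {B : Type v} [Fintype B] [DecidableEq B] {W W' : Subgroup (Perm B)} {S : Finset B} (h : A3 W S)
    (hW : W ≤ W') : A3 W' S := fun σ h1 h2 => hW (h σ h1 h2)

theorem three_le_support {B : Type v} [Fintype B] [DecidableEq B] {p : ℕ} (hp : p.Prime) (hp2 : p ≠ 2) {x : Perm B}
    (hx : orderOf x = p) : 3 ≤ x.support.card := by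
  have h0 : x ≠ 1 := by
    intro h
    rw [h, orderOf_one] at hx
    exact hp.one_lt.ne hx
  have h1 : 2 ≤ x.support.card := Perm.two_le_card_support_of_ne_one h0
  by_contra h
  have h3 : x.support.card = 2 := by omega
  have h4 : x.IsSwap := Perm.card_support_eq_two.1 h3
  have h5 : x ^ 2 = 1 := by
    obtain ⟨u, v, -, huv⟩ := h4
    rw [huv, pow_two, Equiv.swap_mul_self]
  have h6 : p ∣ 2 := by rw [← hx]; exact orderOf_dvd_of_pow_eq_one h5
  exact hp2 ((Nat.prime_dvd_prime_iff_eq hp Nat.prime_two).1 h6)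

/-- KAPPA (section 3 (c) of the plan) -/
theorem exists_kappa {M : Type u} [Group M] {Ω : Type v} {B : Type v} [Fintype B] [DecidableEq B] [MulAction M Ω]
    [MulAction M B] {p d : ℕ} [hp' : Fact p.Prime] (hp : p ≠ 2) (XX : Set M)
    (hconj : ∀ m : M, ∀ x ∈ XX, m * x * m⁻¹ ∈ XX) (hd : ∀ x ∈ XX, (toPermHom M B x).support.card = d)
    (hord : ∀ x ∈ XX, orderOf (toPermHom M B x) = p) (h2 : 2 * d ≤ Fintype.card B)
    (halt : alternatingGroup B ≤ (toPermHom M B).range)
    (hdis : ∀ x ∈ XX, ∀ y ∈ XX, (∀ β : B, x • β = β ∨ y • β = β) → ∀ b : Ω, x • b = b ∨ y • b = b)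
    (b : Ω) (hb : ∃ x ∈ XX, x • b ≠ b) : ∃! κ : B, ∀ x ∈ XX, x • b ≠ b ↔ x • κ ≠ κ := by
  classical
  let φ : M →* Perm B := toPermHom M B
  have hφ : ∀ (m : M) (β : B), φ m β = m • β := fun m β => rfl
  obtain ⟨x0, hx0, hx0b⟩ := hb
  have hd3 : 3 ≤ d := by
    rw [← hd x0 hx0]
    exact three_le_support hp'.out hp (hord x0 hx0)
  let XB : Set (Perm B) := φ '' XX
  have hne : XB.Nonempty := ⟨_, x0, hx0, rfl⟩
  have hconjB : ∀ τ ∈ alternatingGroup B, ∀ x ∈ XB, τ * x * τ⁻¹ ∈ XB := by
    rintro τ hτ _ ⟨y, hy, rfl⟩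
    obtain ⟨m, rfl⟩ := halt hτ
    refine ⟨m * y * m⁻¹, hconj m y hy, ?_⟩
    rw [map_mul, map_mul, map_inv]
  have hcardB : ∀ x ∈ XB, x.support.card = d := by
    rintro _ ⟨y, hy, rfl⟩
    exact hd y hy
  have hordB : ∀ x ∈ XB, orderOf x = p := by
    rintro _ ⟨y, hy, rfl⟩
    exact hord y hy
  -- the image of the stabilizer
  let W : Subgroup (Perm B) := (stabilizer M b).map φ
  have hdisj : ∀ x ∈ XX, ∀ y ∈ XX, Disjoint (φ x).support (φ y).support → x • b ≠ b → y • b = b := by
    intro x hx y hy h hxb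
    refine (hdis x hx y hy (fun β => ?_) b).resolve_left hxb
    by_contra hno
    push Not at hno
    exact (Finset.disjoint_left.1 h) (mem_support.2 hno.1) (mem_support.2 hno.2)
  -- elements fixing `b` generate large subgroups of `W`
  have hgen : ∀ S : Finset B, d ≤ S.card → (∀ x ∈ XX, (φ x).support ⊆ S → x • b = b) → A3 W S := by
    intro S hS h
    refine (H355.FC.A3_closure hp XB hne hconjB hcardB hordB h2 S hS).mono ?_
    rw [Subgroup.closure_le]
    rintro _ ⟨⟨y, hy, rfl⟩, hyS⟩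
    exact ⟨y, h y hy hyS, rfl⟩
  -- `W` does not contain the alternating group
  have hnot : ¬ alternatingGroup B ≤ W := by
    intro h
    obtain ⟨D', hD', hD'c⟩ := Finset.exists_subset_card_eq (s := ((φ x0).support)ᶜ) (n := d) (by
      rw [Finset.card_compl, hd x0 hx0]; omega)
    obtain ⟨z, ⟨y, hy, rfl⟩, hz⟩ := H355.FC.exists_support XB hne hconjB hcardB (by omega) D' hD'c
    -- a permutation in `Alt` moving `supp x0` onto `D'`
    obtain ⟨τ, hτ, hτS⟩ : ∃ τ ∈ alternatingGroup B, (τ * φ x0 * τ⁻¹).support = D' := by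
      obtain ⟨z, ⟨τ, hτ, rfl⟩, hz⟩ := H355.FC.exists_support (d := d) ((fun τ => τ * φ x0 * τ⁻¹) '' (alternatingGroup B : Set (Perm B)))
        ⟨_, 1, one_mem _, rfl⟩ (by
          rintro σ hσ _ ⟨τ, hτ, rfl⟩
          refine ⟨σ * τ, mul_mem hσ hτ, ?_⟩
          simp only
          group) (by
          rintro _ ⟨τ, hτ, rfl⟩
          simp only
          rw [Perm.card_support_conj]
          exact hd x0 hx0) (by omega) D' hD'c
      exact ⟨τ, hτ, hz⟩
    obtain ⟨m, hm, hmτ⟩ := h hτ
    have h1 : (m * x0 * m⁻¹) • b = b := by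
      refine hdisj x0 hx0 _ (hconj m x0 hx0) ?_ hx0b
      rw [map_mul, map_mul, map_inv, hmτ, hτS, Finset.disjoint_left]
      intro β hβ hβ'
      exact Finset.mem_compl.1 (hD' hβ') hβ
    have hmb : m • b = b := hm
    rw [mul_smul, mul_smul, inv_smul_eq_iff.2 hmb.symm, smul_eq_iff_eq_inv_smul, inv_smul_eq_iff.2 hmb.symm] at h1
    exact hx0b h1
  -- a maximal `S`
  obtain ⟨S, hSmem, hSmax⟩ : ∃ S : Finset B, (((φ x0).support)ᶜ ⊆ S ∧ A3 W S) ∧
      ∀ S' : Finset B, ((φ x0).support)ᶜ ⊆ S' → A3 W S' → S'.card ≤ S.card := by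
    obtain ⟨S, hS, hmax⟩ := Finset.exists_max_image
      (Finset.univ.filter fun S : Finset B => ((φ x0).support)ᶜ ⊆ S ∧ A3 W S) Finset.card
      ⟨((φ x0).support)ᶜ, Finset.mem_filter.2 ⟨Finset.mem_univ _, subset_rfl,
        hgen _ (by rw [Finset.card_compl, hd x0 hx0]; omega) (by
          intro y hy hyS
          refine hdisj x0 hx0 y hy ?_ hx0b
          rw [Finset.disjoint_left]
          intro β hβ hβ'
          exact Finset.mem_compl.1 (hyS hβ') hβ)⟩⟩
    refine ⟨S, (Finset.mem_filter.1 hS).2, fun S' h1 h3 => ?_⟩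
    exact hmax S' (Finset.mem_filter.2 ⟨Finset.mem_univ _, h1, h3⟩)
  have hS3 : 3 ≤ S.card := by
    have := Finset.card_le_card hSmem.1
    rw [Finset.card_compl, hd x0 hx0] at this
    omega
  have hadd : ∀ S' : Finset B, A3 W S' → 3 ≤ S'.card → (S ∩ S').Nonempty → S' ⊆ S := by
    intro S' h h3 h4
    have h5 := H355.FC.A3.union hSmem.2 h hS3 h3 h4
    have h6 := hSmax (S ∪ S') (hSmem.1.trans Finset.subset_union_left) h5
    have h7 : S = S ∪ S' := Finset.eq_of_subset_of_card_le Finset.subset_union_left h6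
    rw [h7]
    exact Finset.subset_union_right
  -- members of `XX` moving `b` have support containing the complement of `S`
  have hcontain : ∀ x ∈ XX, x • b ≠ b → Sᶜ ⊆ (φ x).support := by
    intro x hx hxb
    have h1 : A3 W ((φ x).support)ᶜ := hgen _ (by rw [Finset.card_compl, hd x hx]; omega) (by
      intro y hy hyS
      refine hdisj x hx y hy ?_ hxb
      rw [Finset.disjoint_left]
      intro β hβ hβ'
      exact Finset.mem_compl.1 (hyS hβ') hβ)
    have h3 : (S ∩ ((φ x).support)ᶜ).Nonempty := by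
      -- the supports of `x` and `x0` meet
      obtain ⟨β, hβ, hβ'⟩ : ∃ β, β ∈ (φ x0).support ∧ β ∈ (φ x).support := by
        by_contra hno
        push Not at hno
        exact hxb (hdisj x0 hx0 x hx (Finset.disjoint_left.2 hno) hx0b)
      have h4 : ((φ x0).support ∪ (φ x).support).card < Fintype.card B := by
        have h5 := Finset.card_union_add_card_inter (φ x0).support (φ x).support
        rw [hd x hx, hd x0 hx0] at h5
        have h6 : 0 < ((φ x0).support ∩ (φ x).support).card :=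
          Finset.card_pos.2 ⟨β, Finset.mem_inter.2 ⟨hβ, hβ'⟩⟩
        omega
      obtain ⟨γ, hγ⟩ : ∃ γ, γ ∉ (φ x0).support ∪ (φ x).support := by
        by_contra hno
        push Not at hno
        rw [(Finset.eq_univ_iff_forall.2 hno), Finset.card_univ] at h4
        exact lt_irrefl _ h4
      rw [Finset.mem_union, not_or] at hγ
      exact ⟨γ, Finset.mem_inter.2 ⟨hSmem.1 (Finset.mem_compl.2 hγ.1), Finset.mem_compl.2 hγ.2⟩⟩
    have h4 := hadd _ h1 (by rw [Finset.card_compl, hd x hx]; omega) h3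
    intro β hβ
    by_contra h5
    exact Finset.mem_compl.1 hβ (h4 (Finset.mem_compl.2 h5))
  have hSne : Sᶜ.Nonempty := by
    rw [Finset.nonempty_iff_ne_empty]
    intro h
    rw [Finset.compl_eq_empty_iff] at h
    apply hnot
    have := hSmem.2
    rw [h] at this
    exact H355.FC.A3.alternating_le this
  obtain ⟨κ, hκ⟩ := hSne
  -- the complement of `S` is `{κ}`
  have hpt : ∀ β : B, d ≤ (Finset.univ.erase β).card := by
    intro β
    rw [Finset.card_erase_of_mem (Finset.mem_univ _), Finset.card_univ]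
    omega
  have hScompl : Sᶜ = {κ} := by
    apply Finset.eq_singleton_iff_unique_mem.2 ⟨hκ, ?_⟩
    intro β hβ
    by_contra hne
    -- elements missing `κ` or missing `β` fix `b`
    have h1 : ∀ γ ∈ Sᶜ, A3 W (Finset.univ.erase γ) := by
      intro γ hγ
      refine hgen _ (hpt γ) fun x hx hxS => ?_
      by_contra hxb
      have h3 := hxS (hcontain x hx hxb hγ)
      exact Finset.notMem_erase γ _ h3
    have h3 := H355.FC.A3.union (h1 κ hκ) (h1 β hβ) (by have := hpt κ; omega) (by have := hpt β; omega) (by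
      obtain ⟨γ, hγ, hγ1, hγ2⟩ : ∃ γ ∈ (Finset.univ : Finset B), γ ≠ κ ∧ γ ≠ β := by
        have h4 : 2 < (Finset.univ : Finset B).card := by rw [Finset.card_univ]; omega
        obtain ⟨γ, hγ, h5⟩ := Finset.exists_mem_notMem_of_card_lt_card (s := {κ, β}) (t := (Finset.univ : Finset B))
          (lt_of_le_of_lt Finset.card_le_two h4)
        rw [Finset.mem_insert, Finset.mem_singleton, not_or] at h5
        exact ⟨γ, hγ, h5.1, h5.2⟩
      exact ⟨γ, Finset.mem_inter.2 ⟨Finset.mem_erase.2 ⟨hγ1, hγ⟩, Finset.mem_erase.2 ⟨hγ2, hγ⟩⟩⟩)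
    have h4 : Finset.univ.erase κ ∪ Finset.univ.erase β = (Finset.univ : Finset B) := by
      rw [Finset.eq_univ_iff_forall]
      intro γ
      rw [Finset.mem_union, Finset.mem_erase, Finset.mem_erase]
      by_cases h5 : γ = κ
      · exact Or.inr ⟨fun h6 => hne (h6.symm.trans h5), Finset.mem_univ _⟩
      · exact Or.inl ⟨h5, Finset.mem_univ _⟩
    rw [h4] at h3
    exact hnot (H355.FC.A3.alternating_le h3)
  -- elements missing `κ` fix `b`
  have hmiss : ∀ x ∈ XX, x • b ≠ b → x • κ ≠ κ := by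
    intro x hx hxb
    exact mem_support.1 (hcontain x hx hxb hκ)
  -- the stabilizer of `b` fixes `κ`
  have hstab : ∀ m : M, m • b = b → m • κ = κ := by
    intro m hm
    by_contra hne
    -- all members moving `b` also move `m⁻¹ κ`
    have hm' : m⁻¹ • κ ≠ κ := by
      intro h
      rw [inv_smul_eq_iff] at h
      exact hne h.symm
    -- an element with support containing `κ`, missing `m⁻¹ κ`, moves `b`? consider elements missing `m⁻¹ κ`
    have h1 : A3 W (Finset.univ.erase (m⁻¹ • κ)) := by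
      refine hgen _ (hpt _) fun x hx hxS => ?_
      by_contra hxb
      have h3 : (m * x * m⁻¹) • b ≠ b := by
        intro h4
        rw [mul_smul, mul_smul, inv_smul_eq_iff.2 hm.symm, smul_eq_iff_eq_inv_smul, inv_smul_eq_iff.2 hm.symm] at h4
        exact hxb h4
      have h4 := hmiss _ (hconj m x hx) h3
      have h5 : x • (m⁻¹ • κ) ≠ m⁻¹ • κ := by
        intro h6
        apply h4
        rw [mul_smul, mul_smul, h6, smul_inv_smul]
      exact Finset.notMem_erase _ _ (hxS (mem_support.2 h5))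
    have h3 : (S ∩ Finset.univ.erase (m⁻¹ • κ)).Nonempty := by
      obtain ⟨γ, hγ, hγ'⟩ := Finset.exists_mem_notMem_of_card_lt_card (s := {m⁻¹ • κ}) (t := S)
        (by rw [Finset.card_singleton]; omega)
      rw [Finset.mem_singleton] at hγ'
      exact ⟨γ, Finset.mem_inter.2 ⟨hγ, Finset.mem_erase.2 ⟨hγ', Finset.mem_univ _⟩⟩⟩
    have h4 := hadd _ h1 (by have := hpt (m⁻¹ • κ); omega) h3
    have h5 : κ ∈ S := h4 (Finset.mem_erase.2 ⟨hm'.symm, Finset.mem_univ _⟩)
    exact Finset.mem_compl.1 hκ h5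
  refine ⟨κ, fun x hx => ⟨hmiss x hx, fun h h' => h (hstab x h')⟩, ?_⟩
  intro κ' hκ'
  by_contra hkne
  -- an element with support containing `κ` but not `κ'`
  obtain ⟨D', h1, h3, h4⟩ := Finset.exists_subsuperset_card_eq (s := {κ}) (t := Finset.univ.erase κ') (n := d)
    (by
      intro γ hγ
      rw [Finset.mem_singleton] at hγ
      rw [hγ]
      exact Finset.mem_erase.2 ⟨fun h => hkne h.symm, Finset.mem_univ _⟩)
    (by rw [Finset.card_singleton]; omega) (hpt κ')
  obtain ⟨z, ⟨y, hy, rfl⟩, hz⟩ := H355.FC.exists_support XB hne hconjB hcardB (by omega) D' h4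
  have h5 : y • κ ≠ κ := by
    have : κ ∈ (φ y).support := by rw [hz]; exact h1 (Finset.mem_singleton_self κ)
    exact mem_support.1 this
  have h6 : y • b ≠ b := fun h' => h5 (hstab y h')
  have h7 := (hκ' y hy).1 h6
  have h8 : κ' ∈ (φ y).support := mem_support.2 h7
  rw [hz] at h8
  exact Finset.notMem_erase _ _ (h3 h8)

end Cfsg.Agent.H426.FC
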