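import Cfsg.Agent.H426.FC.Local
import Cfsg.Agent.H426.FC.Count
import Cfsg.Agent.H426.FC.Kappa

/-!
# S3618, part B: the local structure at a point
-/

set_option autoImplicit false
set_option linter.unusedSectionVars false

open Equiv Equiv.Perm MulAction

namespace Cfsg.Agent.H426.FC

universe u

theorem coprime_of_zpow_ne {G : Type*} [Group G] {p : ℕ} (hp : p.Prime) {x : G} (hx : x ^ p = 1) {i : ℤ}
    (h : x ^ i ≠ 1) : IsCoprime i (p : ℤ) := by
  rw [Int.isCoprime_iff_gcd_eq_one, Int.gcd_comm, ← Int.isCoprime_iff_gcd_eq_one,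
    Prime.coprime_iff_not_dvd (Nat.prime_iff_prime_int.1 hp)]
  rintro ⟨k, hk⟩
  apply h
  rw [hk, zpow_mul, zpow_natCast, hx, one_zpow]

theorem support_zpow_eq {B : Type*} [Fintype B] [DecidableEq B] {p : ℕ} {x : Perm B} (hx : x ^ p = 1)
    {i : ℤ} (h : IsCoprime i (p : ℤ)) : (x ^ i).support = x.support := by
  ext b
  rw [mem_support, mem_support]
  refine not_congr ⟨fun h1 => fixed_of_zpow hx h h1, fun h1 => Perm.zpow_apply_eq_self_of_apply_eq_self h1 i⟩

/-- an abstract form of the data attached to a point -/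
structure Loc {Ω : Type u} (Z : Set (Perm Ω)) (a : Ω) {B : Type u} (κ : Ω → B) : Prop where
  sep : ∀ T : Finset B, T.card ≤ 2 → ∀ β ∉ T, ∃ x ∈ Z, x a = a ∧ (∀ b, b ≠ a → κ b = β → x b ≠ b) ∧
    (∀ b, b ≠ a → κ b ∈ T → x b = b)
  eq : ∀ b b', b ≠ a → b' ≠ a → κ b = κ b' → ∀ x ∈ Z, x a = a → x b = b → x b' = b'
  third : ∀ b, b ≠ a → ∃ b', b' ≠ a ∧ b' ≠ b ∧ κ b' = κ b
  ne : ∃ b b', b ≠ a ∧ b' ≠ a ∧ κ b ≠ κ b'

variable {Ω : Type u} [Fintype Ω] [DecidableEq Ω]

section

variable {p : ℕ} [hp : Fact p.Prime] {H : Subgroup (Perm Ω)} {s : ℕ} (D : MinData p H s)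

include D

/-- the local structure -/
theorem exists_loc (hp2 : p ≠ 2) (hprim : IsPreprimitive H Ω) (hnot : ¬ IsMultiplyPretransitive H Ω 2) {x0 : Perm Ω}
    (hx0 : x0 ∈ XX p H s) (hn : 2 * s ≤ Fintype.card Ω)
    (IH : ∀ (B : Type u) [Fintype B] [DecidableEq B] (K : Subgroup (Perm B)), IsPreprimitive K B → ∀ z ∈ K,
      orderOf z = p → z.support.card < s → 2 * z.support.card ≤ Fintype.card B → alternatingGroup B ≤ K) (a : Ω) :
    ∃ (B : Type u) (κ : Ω → B), Loc (XX p H s) a κ := by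
  classical
  have hF := fam hx0 hn
  have hcard1 : 1 < Fintype.card Ω := by have := hF.two_le; have := hF.lt; omega
  obtain ⟨a', ha'⟩ : ∃ b, b ≠ a := by
    have : Nontrivial Ω := Fintype.one_lt_card_iff_nontrivial.1 hcard1
    exact exists_ne a
  obtain ⟨x1, hx1, hx1a, -⟩ := H273.FC.exists_fix_move H hprim _ s hF a a' ha'.symm
  let M : Subgroup (Perm Ω) := Ma p H s a
  have h2 : ∃ b c, b ≠ a ∧ c ≠ a ∧ ∀ m ∈ M, m b ≠ c := by
    by_contra hno
    push Not at hno
    apply hnot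
    refine two_of_trans hprim.toIsPretransitive a fun b c hb hc => ?_
    obtain ⟨m, hm, hmb⟩ := hno b c hb hc
    exact ⟨m, Ma_le a hm, Ma_fix hm, hmb⟩
  obtain ⟨b, hb, hbig, hsmall⟩ := exists_orbit M a (fun m hm => Ma_fix hm) x1.support
    (by rw [mem_support, not_not]; exact hx1a)
    (fun c hc => by
      obtain ⟨m, hm, hmc⟩ := exists_move D hprim hn hc hx1 hx1a
      exact ⟨m, hm, mem_support.2 hmc⟩) (by rw [hx1.2.2]; exact hn) h2
  rw [hx1.2.2] at hsmall
  let X1 : M := ⟨x1, mem_Ma hx1 hx1a⟩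
  -- a maximal subgroup containing the stabilizer
  have hSt : stabilizer M b ≠ ⊤ := by
    intro h
    obtain ⟨m, hm, hmb⟩ := exists_move D hprim hn hb hx1 hx1a
    have h1 : (⟨m, hm⟩ : M)⁻¹ * X1 * ⟨m, hm⟩ ∈ stabilizer M b := by rw [h]; exact Subgroup.mem_top _
    have h3 : (m⁻¹ * x1 * m) b = b := h1
    rw [Perm.mul_apply, Perm.mul_apply, Perm.inv_eq_iff_eq] at h3
    exact hmb h3
  obtain ⟨W, hW, hStW⟩ := (eq_top_or_exists_le_coatom (stabilizer M b)).resolve_left hSt
  let B : Type u := M ⧸ W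
  have hfinB : Fintype B := Fintype.ofFinite _
  have hntB : Nontrivial B := by
    obtain ⟨m, hm⟩ : ∃ m : M, m ∉ W := by
      by_contra h
      push Not at h
      exact hW.1 (eq_top_iff.2 fun m _ => h m)
    refine ⟨⟨(m : M ⧸ W), ((1 : M) : M ⧸ W), ?_⟩⟩
    intro h
    have h1 := QuotientGroup.eq.1 h.symm
    rw [inv_one, one_mul] at h1
    exact hm h1
  have hprimB : IsPreprimitive M B := by
    rw [← isCoatom_stabilizer_iff_preprimitive M (((1 : M) : M ⧸ W) : B)]
    have h1 : stabilizer M (((1 : M) : M ⧸ W) : B) = W := stabilizer_quotient W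
    rw [h1]
    exact hW
  let φ : M →* Perm B := toPermHom M B
  have hφ : ∀ (m : M) (β : B), φ m β = m • β := fun m β => rfl
  have hKprim : IsPreprimitive φ.range B := by
    let f : B →ₑ[φ.rangeRestrict] B := { toFun := id, map_smul' := fun _ _ => rfl }
    exact IsPreprimitive.of_surjective (f := f) Function.surjective_id
  -- conjugation in `M`
  have hconj : ∀ y : M, (y : Perm Ω) ∈ XX p H s → ∃ m : M, ∃ i : ℤ, m * y * m⁻¹ = X1 ^ i ∧ IsCoprime i (p : ℤ) := by
    intro y hy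
    obtain ⟨m, hm, i, hi⟩ := exists_conj_Ma D hprim hn hx1 hx1a hy (Ma_fix y.2)
    refine ⟨⟨m, hm⟩, i, ?_, ?_⟩
    · apply Subtype.ext
      push_cast
      exact hi
    · apply coprime_of_zpow_ne hp.out (pow_eq_one hx1.2.1)
      rw [← hi]
      intro h
      apply ne_one hp.out hy.2.1
      rwa [conj_eq_one_iff] at h
  -- `x1` acts non-trivially on `B`
  have hφ1 : φ X1 ≠ 1 := by
    intro h
    have htriv : ∀ m : Perm Ω, ∀ hm : m ∈ M, φ ⟨m, hm⟩ = 1 := by
      intro m hm
      refine Subgroup.closure_induction (p := fun m hm => φ ⟨m, hm⟩ = 1) ?_ ?_ ?_ ?_ hm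
      · intro y hy
        obtain ⟨m, i, hi, -⟩ := hconj ⟨y, mem_Ma hy.1 hy.2⟩ hy.1
        have h1 := congrArg φ hi
        rw [map_mul, map_mul, map_zpow, h, one_zpow, map_inv, conj_eq_one_iff] at h1
        exact h1
      · exact map_one φ
      · intro y z hy hz h1 h3
        have : (⟨y * z, mul_mem hy hz⟩ : M) = ⟨y, hy⟩ * ⟨z, hz⟩ := rfl
        rw [this, map_mul, h1, h3, one_mul]
      · intro y hy h1
        have : (⟨y⁻¹, inv_mem hy⟩ : M) = (⟨y, hy⟩ : M)⁻¹ := rfl
        rw [this, map_inv, h1, inv_one]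
    obtain ⟨β, γ, hβγ⟩ := hntB
    obtain ⟨m, hm⟩ := exists_smul_eq M β γ
    have h1 := htriv m.1 m.2
    have h3 : φ m β = β := by
      have : φ m = 1 := h1
      rw [this]; rfl
    exact hβγ (h3.symm.trans hm)
  have hφp : (φ X1) ^ p = 1 := by
    rw [← map_pow]
    have : X1 ^ p = 1 := Subtype.ext (by push_cast; exact pow_eq_one hx1.2.1)
    rw [this, map_one]
  have hφo : orderOf (φ X1) = p :=
    ((Nat.dvd_prime hp.out).1 (orderOf_dvd_of_pow_eq_one hφp)).resolve_left
      fun h => hφ1 (orderOf_eq_one_iff.1 h)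
  -- counting
  let f : orbit M b → B := fun y =>
    Subgroup.quotientMapOfLE hStW (orbitEquivQuotientStabilizer M b y)
  have hfm : ∀ m : M, ∀ y : orbit M b, (y : Ω) = m • b → f y = ((m : M ⧸ W) : B) := by
    intro m y hy
    have h1 : orbitEquivQuotientStabilizer M b y = ((m : M ⧸ stabilizer M b)) := by
      rw [← Equiv.eq_symm_apply]
      apply Subtype.ext
      rw [hy, orbitEquivQuotientStabilizer_symm_apply]
    change Subgroup.quotientMapOfLE hStW (orbitEquivQuotientStabilizer M b y) = _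
    rw [h1]
    rfl
  have hf : ∀ (g : M) (y : orbit M b), f (g • y) = g • f y := by
    intro g y
    obtain ⟨m, hm⟩ := y.2
    have hm' : (y : Ω) = m • b := hm.symm
    rw [hfm m y hm', hfm (g * m) (g • y) (by rw [orbit.coe_smul, hm', mul_smul])]
    rfl
  let e : ℕ := Nat.card {y : orbit M b // f y = f ⟨b, mem_orbit_self b⟩}
  have he : 0 < e := by
    have : Nonempty {y : orbit M b // f y = f ⟨b, mem_orbit_self b⟩} := ⟨⟨⟨b, mem_orbit_self b⟩, rfl⟩⟩
    exact Nat.card_pos
  have hover := card_over (G := M) f hf (f ⟨b, mem_orbit_self b⟩)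
  have htot : Nat.card (orbit M b) = Fintype.card B * e := by
    rw [← Finset.card_univ, ← hover Finset.univ]
    exact Nat.card_congr (Equiv.subtypeUnivEquiv fun y => Finset.mem_univ _).symm
  have hsup : (φ X1).support.card * e ≤ Nat.card {c // c ∈ x1.support ∧ c ∈ orbit M b} := by
    rw [← hover]
    refine Nat.card_le_card_of_injective (fun y => ⟨(y.1 : Ω), ?_, y.1.2⟩) ?_
    · rw [mem_support]
      intro h
      have h1 : X1 • y.1 = y.1 := Subtype.ext h
      have h3 := hf X1 y.1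
      rw [h1] at h3
      exact mem_support.1 y.2 h3.symm
    · intro y z h
      exact Subtype.ext (Subtype.ext (congrArg (fun c : {c // c ∈ x1.support ∧ c ∈ orbit M b} => (c : Ω)) h))
  have hd2 : 2 * (φ X1).support.card ≤ Fintype.card B := by
    rw [htot] at hbig
    have h1 : 2 * (φ X1).support.card * e ≤ Fintype.card B * e := by
      calc 2 * (φ X1).support.card * e = 2 * ((φ X1).support.card * e) := by ring
        _ ≤ 2 * Nat.card {c // c ∈ x1.support ∧ c ∈ orbit M b} := Nat.mul_le_mul_left 2 hsup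
        _ ≤ _ := hbig
    exact Nat.le_of_mul_le_mul_right h1 he
  have hds : (φ X1).support.card < s := by
    have h1 : (φ X1).support.card ≤ (φ X1).support.card * e := Nat.le_mul_of_pos_right _ he
    omega
  have halt := IH B φ.range hKprim (φ X1) ⟨X1, rfl⟩ hφo hds hd2
  set d := (φ X1).support.card with hd
  -- properties of all minimal elements
  have hcardall : ∀ y : M, (y : Perm Ω) ∈ XX p H s → (φ y).support.card = d := by
    intro y hy
    obtain ⟨m, i, hi, hip⟩ := hconj y hy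
    have h1 := congrArg φ hi
    rw [map_mul, map_mul, map_zpow, map_inv] at h1
    rw [← Perm.card_support_conj (σ := φ m) (τ := φ y), h1, support_zpow_eq hφp hip]
  have hd3 : 3 ≤ d := by
    have h1 : 2 ≤ d := Perm.two_le_card_support_of_ne_one hφ1
    by_contra h
    have h3 : d = 2 := by omega
    have h4 : (φ X1).IsSwap := Perm.card_support_eq_two.1 h3
    have h5 : (φ X1) ^ 2 = 1 := by
      obtain ⟨u, v, -, huv⟩ := h4
      rw [huv, pow_two, Equiv.swap_mul_self]
    have h6 : p ∣ 2 := by rw [← hφo]; exact orderOf_dvd_of_pow_eq_one h5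
    exact hp2 ((Nat.prime_dvd_prime_iff_eq hp.out Nat.prime_two).1 h6)
  let XM : Set M := {y | (y : Perm Ω) ∈ XX p H s}
  have hconjM : ∀ m : M, ∀ y ∈ XM, m * y * m⁻¹ ∈ XM := by
    intro m y hy
    exact hF.conj m (Ma_le a m.2) y hy
  have hordM : ∀ y ∈ XM, orderOf (φ y) = p := by
    intro y hy
    have h1 : (φ y) ^ p = 1 := by
      rw [← map_pow]
      have : y ^ p = 1 := Subtype.ext (by push_cast; exact pow_eq_one hy.2.1)
      rw [this, map_one]
    refine ((Nat.dvd_prime hp.out).1 (orderOf_dvd_of_pow_eq_one h1)).resolve_left fun h => ?_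
    rw [orderOf_eq_one_iff] at h
    have h3 := hcardall y hy
    rw [h, Perm.support_one, Finset.card_empty] at h3
    omega
  have hdis : ∀ x ∈ XM, ∀ y ∈ XM, (∀ β : B, x • β = β ∨ y • β = β) → ∀ c : Ω, x • c = c ∨ y • c = c := by
    intro x hx y hy hxy c
    by_contra hno
    push Not at hno
    obtain ⟨l, hl, i, hi⟩ := D.exists_conj hx hy hno.1 hno.2
    have hlM : l ∈ M := by
      refine (Subgroup.closure_le _).2 ?_ hl
      rintro w (rfl | rfl)
      · exact x.2
      · exact y.2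
    have hcomm : Commute (φ x) (φ y) := by
      refine Perm.Disjoint.commute fun β => ?_
      exact hxy β
    -- `l` commutes with `y` on `B`
    have hly : Commute (φ ⟨l, hlM⟩) (φ y) := by
      have h1 : ∀ w : Perm Ω, ∀ hw : w ∈ Subgroup.closure {(x : Perm Ω), (y : Perm Ω)}, ∀ hwM : w ∈ M,
          Commute (φ ⟨w, hwM⟩) (φ y) := by
        intro w hw
        have hle : Subgroup.closure {(x : Perm Ω), (y : Perm Ω)} ≤ M := by
          rw [Subgroup.closure_le]
          rintro v (rfl | rfl)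
          · exact x.2
          · exact y.2
        refine Subgroup.closure_induction (p := fun w hw => ∀ hwM : w ∈ M, Commute (φ ⟨w, hwM⟩) (φ y)) ?_ ?_ ?_ ?_ hw
        · rintro v (rfl | rfl) hv
          · exact hcomm
          · exact Commute.refl _
        · intro h
          have : (⟨1, h⟩ : M) = 1 := rfl
          rw [this, map_one]
          exact Commute.one_left _
        · intro u v hu hv h3 h4 huv
          have : (⟨u * v, huv⟩ : M) = ⟨u, hle hu⟩ * ⟨v, hle hv⟩ := rfl
          rw [this, map_mul]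
          exact (h3 _).mul_left (h4 _)
        · intro u hu h3 hu'
          have : (⟨u⁻¹, hu'⟩ : M) = (⟨u, hle hu⟩ : M)⁻¹ := rfl
          rw [this, map_inv]
          exact (h3 _).inv_left
      exact h1 l hl hlM
    have h1 : φ y = (φ x) ^ i := by
      have h3 : (⟨l, hlM⟩ : M) * y * (⟨l, hlM⟩ : M)⁻¹ = x ^ i := Subtype.ext (by push_cast; exact hi)
      have h4 := congrArg φ h3
      rw [map_mul, map_mul, map_inv, map_zpow, hly.eq, mul_inv_cancel_right] at h4
      exact h4
    have h3 : 0 < (φ y).support.card := by rw [hcardall y hy]; omega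
    obtain ⟨β, hβ⟩ := Finset.card_pos.1 h3
    rw [mem_support] at hβ
    rcases hxy β with h4 | h4
    · apply hβ
      rw [h1]
      exact Perm.zpow_apply_eq_self_of_apply_eq_self h4 i
    · exact hβ h4
  have hex : ∀ c : Ω, c ≠ a → ∃ x ∈ XM, x • c ≠ c := by
    intro c hc
    obtain ⟨x, hx, hxa, hxc⟩ := H273.FC.exists_fix_move H hprim _ s hF a c hc.symm
    exact ⟨⟨x, mem_Ma hx hxa⟩, hx, hxc⟩
  have hk : ∀ c : Ω, ∃ k : B, c ≠ a → (∀ x ∈ XM, x • c ≠ c ↔ x • k ≠ k) ∧
      ∀ k', (∀ x ∈ XM, x • c ≠ c ↔ x • k' ≠ k') → k' = k := by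
    intro c
    by_cases hc : c = a
    · exact ⟨f ⟨b, mem_orbit_self b⟩, fun h => absurd hc h⟩
    · obtain ⟨k, hk, hk'⟩ := exists_kappa (M := M) (Ω := Ω) (B := B) hp2 XM hconjM hcardall hordM hd2 halt hdis c
        (hex c hc)
      exact ⟨k, fun _ => ⟨hk, hk'⟩⟩
  choose κ hκ using hk
  have hequi : ∀ (m : M) (c : Ω), c ≠ a → κ (m • c) = m • κ c := by
    intro m c hc
    have hmc : m • c ≠ a := by
      intro h
      have h1 : (m : Perm Ω) c = (m : Perm Ω) a := h.trans (Ma_fix m.2).symm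
      exact hc ((m : Perm Ω).injective h1)
    refine ((hκ (m • c) hmc).2 _ ?_).symm
    intro x hx
    have h1 := (hκ c hc).1 (m⁻¹ * x * m) (by have := hconjM m⁻¹ x hx; rwa [inv_inv] at this)
    rw [mul_smul, mul_smul, mul_smul, mul_smul, Ne, Ne, inv_smul_eq_iff, inv_smul_eq_iff] at h1
    exact h1
  refine ⟨B, κ, ?_, ?_, ?_, ?_⟩
  · intro T hT β hβ
    obtain ⟨D', h1, h3, h4⟩ := Finset.exists_subsuperset_card_eq (s := {β}) (t := Finset.univ \ T) (n := d)
      (by
        intro γ hγ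
        rw [Finset.mem_singleton] at hγ
        rw [hγ]
        exact Finset.mem_sdiff.2 ⟨Finset.mem_univ _, hβ⟩)
      (by rw [Finset.card_singleton]; omega)
      (by
        rw [Finset.card_sdiff_of_subset (Finset.subset_univ _), Finset.card_univ]
        omega)
    obtain ⟨z, ⟨y, hy, rfl⟩, hz⟩ := H355.FC.exists_support (d := d) (φ '' XM) ⟨_, X1, hx1, rfl⟩ (by
        rintro τ hτ _ ⟨y, hy, rfl⟩
        obtain ⟨m, rfl⟩ := halt hτ
        refine ⟨m * y * m⁻¹, hconjM m y hy, ?_⟩
        rw [map_mul, map_mul, map_inv]) (by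
        rintro _ ⟨y, hy, rfl⟩
        exact hcardall y hy) (by omega) D' h4
    refine ⟨y, hy, Ma_fix y.2, ?_, ?_⟩
    · intro c hc hcβ
      refine ((hκ c hc).1 y hy).2 ?_
      rw [hcβ]
      have h5 : β ∈ (φ y).support := by rw [hz]; exact h1 (Finset.mem_singleton_self β)
      exact mem_support.1 h5
    · intro c hc hcT
      by_contra h5
      have h6 := ((hκ c hc).1 y hy).1 h5
      have h7 : κ c ∈ (φ y).support := mem_support.2 h6
      rw [hz] at h7
      exact (Finset.mem_sdiff.1 (h3 h7)).2 hcT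
  · intro c c' hc hc' hcc x hx hxa hxc
    by_contra h
    have h1 := ((hκ c' hc').1 ⟨x, mem_Ma hx hxa⟩ hx).1 h
    rw [← hcc] at h1
    exact ((hκ c hc).1 ⟨x, mem_Ma hx hxa⟩ hx).2 h1 hxc
  · intro c hc
    obtain ⟨c1, hc1, hc1'⟩ : ∃ c1, c1 ≠ a ∧ ∀ m ∈ M, m c1 ≠ c := by
      obtain ⟨u, v, hu, hv, huv⟩ := h2
      by_cases h : ∃ m ∈ M, m u = c
      · obtain ⟨m, hm, hmu⟩ := h
        refine ⟨v, hv, ?_⟩
        intro n hn h1
        refine huv (n⁻¹ * m) (M.mul_mem (M.inv_mem hn) hm) ?_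
        rw [Perm.mul_apply, hmu, Perm.inv_eq_iff_eq]
        exact h1.symm
      · push Not at h
        exact ⟨u, hu, h⟩
    obtain ⟨m, hm⟩ := exists_smul_eq M (κ c1) (κ c)
    refine ⟨m • c1, ?_, hc1' m m.2, ?_⟩
    · intro h
      have h1 : (m : Perm Ω) c1 = (m : Perm Ω) a := h.trans (Ma_fix m.2).symm
      exact hc1 ((m : Perm Ω).injective h1)
    · rw [hequi m c1 hc1, hm]
  · obtain ⟨β, hβ⟩ := exists_ne (κ a')
    obtain ⟨m, hm⟩ := exists_smul_eq M (κ a') β
    refine ⟨a', m • a', ha', ?_, ?_⟩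
    · intro h
      have h1 : (m : Perm Ω) a' = (m : Perm Ω) a := h.trans (Ma_fix m.2).symm
      exact ha' ((m : Perm Ω).injective h1)
    · rw [hequi m a' ha', hm]
      exact hβ.symm

end

end Cfsg.Agent.H426.FC
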