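import Cfsg.Agent.H426.FC.MinElt
import Cfsg.Agent.H426.FC.TwoCl
import Cfsg.Agent.H273.FC.Conn

/-!
# S3618, part B: the structure of `M_a`
-/

set_option autoImplicit false
set_option linter.unusedSectionVars false

open Equiv Equiv.Perm MulAction

namespace Cfsg.Agent.H426.FC

universe u

variable {Ω : Type u} [Fintype Ω] [DecidableEq Ω]

/-- the family of minimal elements -/
theorem fam {p : ℕ} [hp : Fact p.Prime] {H : Subgroup (Perm Ω)} {s : ℕ} {x0 : Perm Ω} (hx0 : x0 ∈ XX p H s)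
    (hn : 2 * s ≤ Fintype.card Ω) : Fam H (XX p H s) s where
  mem := fun x hx => hx.1
  conj := by
    intro h hh x hx
    refine ⟨H.mul_mem (H.mul_mem hh hx.1) (H.inv_mem hh), ?_, ?_⟩
    · rw [← MulAut.conj_apply, MulEquiv.orderOf_eq]
      exact hx.2.1
    · rw [Perm.card_support_conj]
      exact hx.2.2
  nonempty := ⟨x0, hx0⟩
  card := fun x hx => hx.2.2
  two_le := by
    rw [← hx0.2.2]
    exact Perm.two_le_card_support_of_ne_one (ne_one hp.out hx0.2.1)
  lt := by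
    have h : 2 ≤ s := by
      rw [← hx0.2.2]
      exact Perm.two_le_card_support_of_ne_one (ne_one hp.out hx0.2.1)
    omega

/-- the group generated by the minimal elements fixing `a` -/
def Ma (p : ℕ) (H : Subgroup (Perm Ω)) (s : ℕ) (a : Ω) : Subgroup (Perm Ω) :=
  Subgroup.closure {x | x ∈ XX p H s ∧ x a = a}

section

variable {p : ℕ} [hp : Fact p.Prime] {H : Subgroup (Perm Ω)} {s : ℕ} (D : MinData p H s)

theorem mem_Ma {a : Ω} {x : Perm Ω} (hx : x ∈ XX p H s) (hxa : x a = a) : x ∈ Ma p H s a :=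
  Subgroup.subset_closure ⟨hx, hxa⟩

theorem Ma_le (a : Ω) : Ma p H s a ≤ H := by
  rw [Ma, Subgroup.closure_le]
  exact fun x hx => hx.1.1

theorem Ma_fix {a : Ω} {m : Perm Ω} (hm : m ∈ Ma p H s a) : m a = a := by
  have h : Ma p H s a ≤ stabilizer (Perm Ω) a := by
    rw [Ma, Subgroup.closure_le]
    exact fun x hx => hx.2
  exact h hm

theorem fixed_conj {a : Ω} {m x : Perm Ω} (hm : m a = a) (hx : x a = a) : (m * x * m⁻¹) a = a := by
  have h1 : m⁻¹ a = a := by rw [Perm.inv_eq_iff_eq]; exact hm.symm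
  rw [Perm.mul_apply, Perm.mul_apply, h1, hx, hm]

include D

/-- (G1): the groups generated by minimal elements fixing `a` are conjugate -/
theorem exists_conj_Ma (hprim : IsPreprimitive H Ω) (hn : 2 * s ≤ Fintype.card Ω) {a : Ω} {x y : Perm Ω}
    (hx : x ∈ XX p H s) (hxa : x a = a) (hy : y ∈ XX p H s) (hya : y a = a) :
    ∃ m ∈ Ma p H s a, ∃ i : ℤ, m * y * m⁻¹ = x ^ i := by
  have hF := fam hx hn
  -- chains
  have chain : ∀ b c : Ω, Relation.ReflTransGen (Rel (XX p H s) a) b c → x b ≠ b → ∀ z ∈ XX p H s, z a = a → z c ≠ c →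
      ∃ m ∈ Ma p H s a, ∃ i : ℤ, m * z * m⁻¹ = x ^ i := by
    intro b c hbc hxb
    have base : ∀ u v : Perm Ω, u ∈ XX p H s → u a = a → v ∈ XX p H s → v a = a → ∀ c, u c ≠ c → v c ≠ c →
        ∃ m ∈ Ma p H s a, ∃ i : ℤ, m * v * m⁻¹ = u ^ i := by
      intro u v hu hua hv hva c huc hvc
      obtain ⟨l, hl, i, hi⟩ := D.exists_conj hu hv huc hvc
      refine ⟨l, ?_, i, hi⟩
      refine (Subgroup.closure_le _).2 ?_ hl
      rintro w (rfl | rfl)
      · exact mem_Ma hu hua
      · exact mem_Ma hv hva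
    induction hbc with
    | refl =>
      intro z hz hza hzb
      exact base x z hx hxa hz hza b hxb hzb
    | @tail c d _ hcd ih =>
      intro z hz hza hzd
      obtain ⟨w, hw, hwa, hwc, hwd⟩ := hcd
      obtain ⟨m, hm, i, hi⟩ := ih w hw hwa hwc
      obtain ⟨l, hl, j, hj⟩ := base w z hw hwa hz hza d hwd hzd
      refine ⟨m * l, mul_mem hm hl, i * j, ?_⟩
      have h1 : m * l * z * (m * l)⁻¹ = m * (l * z * l⁻¹) * m⁻¹ := by group
      have h2 : m * w ^ j * m⁻¹ = (m * w * m⁻¹) ^ j := by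
        rw [conj_zpow]
      rw [h1, hj, h2, hi, zpow_mul]
  obtain ⟨b, hb⟩ : ∃ b, x b ≠ b := by
    by_contra h
    push Not at h
    exact ne_one hp.out hx.2.1 (Equiv.ext h)
  obtain ⟨c, hc⟩ : ∃ c, y c ≠ c := by
    by_contra h
    push Not at h
    exact ne_one hp.out hy.2.1 (Equiv.ext h)
  refine chain b c (H273.FC.connected H hprim _ s hF a b c ?_ ?_) hb y hy hya hc
  · rintro rfl
    exact hb hxa
  · rintro rfl
    exact hc hya

/-- every minimal element fixing `a` moves a point in every orbit of `M_a` on the other points -/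
theorem exists_move (hprim : IsPreprimitive H Ω) (hn : 2 * s ≤ Fintype.card Ω) {a b : Ω} (hab : b ≠ a) {x : Perm Ω}
    (hx : x ∈ XX p H s) (hxa : x a = a) : ∃ m ∈ Ma p H s a, x (m b) ≠ m b := by
  obtain ⟨y, hy, hya, hyb⟩ := H273.FC.exists_fix_move H hprim _ s (fam hx hn) a b hab.symm
  obtain ⟨m, hm, i, hi⟩ := exists_conj_Ma D hprim hn hx hxa hy hya
  refine ⟨m, hm, ?_⟩
  intro h
  have h1 : (x ^ i) (m b) = m b := Perm.zpow_apply_eq_self_of_apply_eq_self h i
  rw [← hi, Perm.mul_apply, Perm.mul_apply] at h1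
  have h2 : m⁻¹ (m b) = b := m.symm_apply_apply b
  rw [h2] at h1
  exact hyb (m.injective h1)

end

/-- if `M_a` is transitive on the other points then `H` is 2-transitive -/
theorem two_of_trans {H : Subgroup (Perm Ω)} (hH : IsPretransitive H Ω) (a : Ω)
    (h : ∀ b c : Ω, b ≠ a → c ≠ a → ∃ m ∈ H, m a = a ∧ m b = c) : IsMultiplyPretransitive H Ω 2 := by
  rw [is_two_pretransitive_iff]
  intro c d c' d' hcd hcd'
  obtain ⟨h1, hh1⟩ := exists_smul_eq H c a
  obtain ⟨h2, hh2⟩ := exists_smul_eq H c' a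
  obtain ⟨m, hm, hma, hmd⟩ := h (h1 • d) (h2 • d') (by rw [← hh1]; exact fun h => hcd (h1.1.injective h).symm)
    (by rw [← hh2]; exact fun h => hcd' (h2.1.injective h).symm)
  refine ⟨h2⁻¹ * (⟨m, hm⟩ : H) * h1, ?_, ?_⟩
  · rw [mul_smul, mul_smul, hh1, inv_smul_eq_iff, hh2]
    exact hma
  · rw [mul_smul, mul_smul, inv_smul_eq_iff]
    exact hmd

end Cfsg.Agent.H426.FC
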