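import Cfsg.Agent.H426.FC.Closure

/-!
# S3618, part B: the minimal elements of order `p` (L3 - L5)
-/

set_option autoImplicit false

open Equiv Equiv.Perm MulAction
open scoped Pointwise

namespace Cfsg.Agent.H426.FC

universe u

theorem pow_eq_one {Ω : Type u} {p : ℕ} {x : Perm Ω} (hx : orderOf x = p) : x ^ p = 1 := by
  rw [← hx]; exact pow_orderOf_eq_one x

theorem ne_one {Ω : Type u} {p : ℕ} (hp : p.Prime) {x : Perm Ω} (hx : orderOf x = p) : x ≠ 1 := by
  intro h
  rw [h, orderOf_one] at hx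
  exact hp.one_lt.ne hx

/-- if `x ^ i a ≠ a` for one point then `x ^ i` moves every point moved by `x` -/
theorem zpow_ne {Ω : Type u} {p : ℕ} (hp : p.Prime) {x : Perm Ω} (hx : x ^ p = 1) {i : ℤ} {a : Ω}
    (h : (x ^ i) a ≠ a) {b : Ω} (hb : x b ≠ b) : (x ^ i) b ≠ b := by
  intro h'
  apply hb
  refine fixed_of_zpow hx ?_ h'
  rw [Int.isCoprime_iff_gcd_eq_one, Int.gcd_comm, ← Int.isCoprime_iff_gcd_eq_one,
    Prime.coprime_iff_not_dvd (Nat.prime_iff_prime_int.1 hp)]
  rintro ⟨k, hk⟩
  apply h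
  rw [hk, zpow_mul, zpow_natCast, hx, one_zpow]
  rfl

variable {Ω : Type u} [Fintype Ω] [DecidableEq Ω]

/-- the elements of order `p` of `H` which move exactly `s` points -/
def XX (p : ℕ) (H : Subgroup (Perm Ω)) (s : ℕ) : Set (Perm Ω) := {x | x ∈ H ∧ orderOf x = p ∧ x.support.card = s}

/-- `H` is 2-closed and `s < p ^ 2` is at most the number of points moved by an element of order `p` -/
structure MinData (p : ℕ) (H : Subgroup (Perm Ω)) (s : ℕ) : Prop where
  cl : TwoClosed H
  lt : s < p ^ 2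
  min : ∀ z ∈ H, orderOf z = p → s ≤ z.support.card

namespace MinData

variable {p : ℕ} [hp : Fact p.Prime] {H : Subgroup (Perm Ω)} {s : ℕ} (D : MinData p H s)

include D

theorem exists_zpow_of_commute {x y : Perm Ω} (hx : x ∈ XX p H s) (hy : y ∈ H) (hyp : y ^ p = 1)
    (hc : Commute x y) : ∃ i : ℤ, ∀ a, x a ≠ a → y a = (x ^ i) a :=
  exists_pow_of_commute hp.out D.cl hx.1 hx.2.1 (by rw [hx.2.2]; exact D.lt)
    (fun z hz hz' => by rw [hx.2.2]; exact D.min z hz hz') hy hyp hc

/-- L3 -/
theorem disjoint_or {P : Subgroup (Perm Ω)} (hP : IsPGroup p P) {x y : Perm Ω} (hx : x ∈ XX p H s)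
    (hy : y ∈ XX p H s) (hxP : x ∈ P) (hyP : y ∈ P) : (∀ a, x a = a ∨ y a = a) ∨ ∃ i : ℤ, y = x ^ i := by
  have hc : Commute x y := commute_of_isPGroup hP hxP hyP (pow_eq_one hx.2.1) (pow_eq_one hy.2.1)
    (by rw [hx.2.2]; exact D.lt) (by rw [hy.2.2]; exact D.lt)
  by_cases hm : ∀ a, x a = a ∨ y a = a
  · exact Or.inl hm
  push Not at hm
  obtain ⟨a, hxa, hya⟩ := hm
  obtain ⟨i, hi⟩ := D.exists_zpow_of_commute hx hy.1 (pow_eq_one hy.2.1) hc
  right
  refine ⟨i, ?_⟩
  have h1 : (x ^ i) a ≠ a := by rw [← hi a hxa]; exact hya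
  have hsub : x.support ⊆ y.support := by
    intro b hb
    rw [mem_support] at hb ⊢
    rw [hi b hb]
    exact zpow_ne hp.out (pow_eq_one hx.2.1) h1 hb
  have heq : x.support = y.support := Finset.eq_of_subset_of_card_le hsub (by rw [hx.2.2, hy.2.2])
  apply Equiv.ext
  intro b
  by_cases hb : x b = b
  · have h2 : b ∉ y.support := by
      rw [← heq, mem_support, not_not]
      exact hb
    rw [mem_support, not_not] at h2
    rw [h2, Perm.zpow_apply_eq_self_of_apply_eq_self hb]
  · exact hi b hb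

/-- L4 -/
theorem exists_conj {x y : Perm Ω} (hx : x ∈ XX p H s) (hy : y ∈ XX p H s) {a : Ω} (hxa : x a ≠ a) (hya : y a ≠ a) :
    ∃ l ∈ Subgroup.closure {x, y}, ∃ i : ℤ, l * y * l⁻¹ = x ^ i := by
  classical
  set L := Subgroup.closure {x, y} with hL
  have hxL : x ∈ L := Subgroup.subset_closure (by simp)
  have hyL : y ∈ L := Subgroup.subset_closure (by simp)
  have hLH : L ≤ H := by
    rw [hL, Subgroup.closure_le]
    rintro z (rfl | rfl)
    · exact hx.1
    · exact hy.1
  have hzp : ∀ z : L, orderOf (z : Perm Ω) = p → IsPGroup p (Subgroup.zpowers z) := by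
    intro z hz
    refine IsPGroup.of_card (n := 1) ?_
    rw [Nat.card_zpowers, pow_one, ← hz, Subgroup.orderOf_coe]
  obtain ⟨T, hT⟩ := (hzp ⟨x, hxL⟩ hx.2.1).exists_le_sylow
  obtain ⟨T', hT'⟩ := (hzp ⟨y, hyL⟩ hy.2.1).exists_le_sylow
  obtain ⟨l, hl⟩ := MulAction.exists_smul_eq L T' T
  have hxT : (⟨x, hxL⟩ : L) ∈ (T : Subgroup L) := hT (Subgroup.mem_zpowers _)
  have hyT : l * (⟨y, hyL⟩ : L) * l⁻¹ ∈ (T : Subgroup L) := by
    have h1 : (⟨y, hyL⟩ : L) ∈ (T' : Subgroup L) := hT' (Subgroup.mem_zpowers _)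
    have h2 : MulAut.conj l • (⟨y, hyL⟩ : L) ∈ (MulAut.conj l • (T' : Subgroup L) : Subgroup L) :=
      Subgroup.smul_mem_pointwise_smul _ _ _ h1
    rw [← hl]
    exact h2
  -- supports
  have hinv : ∀ z ∈ L, ∀ b, (x b ≠ b ∨ y b ≠ b) → (x (z b) ≠ z b ∨ y (z b) ≠ z b) := by
    intro z hz
    refine Subgroup.closure_induction (p := fun z _ => ∀ b, (x b ≠ b ∨ y b ≠ b) → (x (z b) ≠ z b ∨ y (z b) ≠ z b))
      ?_ ?_ ?_ ?_ hz
    · rintro z (rfl | rfl) b hb
      · by_cases h1 : z b = b
        · rw [h1]; exact hb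
        · exact Or.inl fun h => h1 (z.injective h)
      · by_cases h1 : z b = b
        · rw [h1]; exact hb
        · exact Or.inr fun h => h1 (z.injective h)
    · intro b hb; exact hb
    · intro z w _ _ hz hw b hb
      exact hz (w b) (hw b hb)
    · intro z _ hz b hb
      -- the map induced on the finite set is onto
      have h1 : ∀ n : ℕ, x ((z ^ n) b) ≠ (z ^ n) b ∨ y ((z ^ n) b) ≠ (z ^ n) b := by
        intro n
        induction n with
        | zero => exact hb
        | succ n ih =>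
          rw [pow_succ', Perm.mul_apply]
          exact hz _ ih
      have h2 : z⁻¹ = z ^ (orderOf z - 1) := by
        rw [inv_eq_iff_mul_eq_one, ← pow_succ', Nat.sub_add_cancel (orderOf_pos z)]
        exact pow_orderOf_eq_one z
      rw [h2]
      exact h1 _
  have hlH : (l : Perm Ω) ∈ H := hLH l.2
  set y' : Perm Ω := l * y * (l : Perm Ω)⁻¹ with hy'
  have hyX : y' ∈ XX p H s := by
    refine ⟨H.mul_mem (H.mul_mem hlH hy.1) (H.inv_mem hlH), ?_, ?_⟩
    · rw [hy', ← MulAut.conj_apply, MulEquiv.orderOf_eq]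
      exact hy.2.1
    · rw [hy', Perm.card_support_conj]
      exact hy.2.2
  have hP : IsPGroup p ((T : Subgroup L).map L.subtype) := T.isPGroup'.map _
  rcases D.disjoint_or hP hx hyX ⟨_, hxT, rfl⟩ ⟨_, hyT, rfl⟩ with h | ⟨i, hi⟩
  · exfalso
    -- disjoint supports inside `supp x ∪ supp y`
    have h1 : Disjoint x.support y'.support := by
      rw [Finset.disjoint_left]
      intro b hb hb'
      rw [mem_support] at hb hb'
      rcases h b with h | h
      · exact hb h
      · exact hb' h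
    have h2 : x.support ∪ y'.support ⊆ x.support ∪ y.support := by
      intro b hb
      rw [Finset.mem_union] at hb ⊢
      rcases hb with hb | hb
      · exact Or.inl hb
      · rw [mem_support, hy', Perm.mul_apply, Perm.mul_apply] at hb
        have h3 : y ((l : Perm Ω)⁻¹ b) ≠ (l : Perm Ω)⁻¹ b := by
          intro h4
          rw [h4] at hb
          exact hb ((l : Perm Ω).apply_symm_apply b)
        have h5 := hinv l l.2 _ (Or.inr h3)
        have h6 : (l : Perm Ω) ((l : Perm Ω)⁻¹ b) = b := (l : Perm Ω).apply_symm_apply b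
        rw [h6] at h5
        rcases h5 with h5 | h5
        · exact Or.inl (mem_support.2 h5)
        · exact Or.inr (mem_support.2 h5)
    have h3 := Finset.card_le_card h2
    rw [Finset.card_union_of_disjoint h1, hx.2.2, hyX.2.2] at h3
    have h4 := Finset.card_union_add_card_inter x.support y.support
    rw [hx.2.2, hy.2.2] at h4
    have h5 : 0 < (x.support ∩ y.support).card :=
      Finset.card_pos.2 ⟨a, Finset.mem_inter.2 ⟨mem_support.2 hxa, mem_support.2 hya⟩⟩
    omega
  · exact ⟨l, l.2, i, hi⟩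

/-- L5 -/
theorem two_mul_le (hd : p ^ 2 ∣ Nat.card H) {x : Perm Ω} (hx : x ∈ XX p H s) : 2 * s ≤ Fintype.card Ω := by
  classical
  have hxp : x ^ p = 1 := pow_eq_one hx.2.1
  have hx1 : x ≠ 1 := ne_one hp.out hx.2.1
  -- an element `t` of `H` which commutes with `x`, not in `⟨x⟩`, with `t ^ p ∈ ⟨x⟩`
  obtain ⟨t, htH, htx, htn, htp⟩ : ∃ t ∈ H, Commute x t ∧ t ∉ Subgroup.zpowers x ∧ t ^ p ∈ Subgroup.zpowers x := by
    have hzp : IsPGroup p (Subgroup.zpowers (⟨x, hx.1⟩ : H)) := by
      refine IsPGroup.of_card (n := 1) ?_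
      rw [Nat.card_zpowers, pow_one, Subgroup.orderOf_mk]
      exact hx.2.1
    obtain ⟨P, hP⟩ := hzp.exists_le_sylow
    have hcP : p ^ 2 ∣ Nat.card P := P.pow_dvd_card_of_pow_dvd_card hd
    have hxP : (⟨x, hx.1⟩ : H) ∈ (P : Subgroup H) := hP (Subgroup.mem_zpowers _)
    let X : P := ⟨⟨x, hx.1⟩, hxP⟩
    have hPp : IsPGroup p P := P.isPGroup'
    have hXo : orderOf X = p :=
      ((Subgroup.orderOf_coe X).symm.trans (Subgroup.orderOf_coe (X : H)).symm).trans hx.2.1
    -- a central subgroup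
    have hPn : Nontrivial P := ⟨X, 1, fun h => hx1 (congrArg (fun z : P => ((z : H) : Perm Ω)) h)⟩
    have hZ : Nontrivial (Subgroup.center P) := hPp.center_nontrivial
    have hZp : IsPGroup p (Subgroup.center P) := hPp.to_subgroup _
    have hdvd : p ∣ Nat.card (Subgroup.center P) := by
      obtain ⟨n, hn, hc⟩ := hZp.nontrivial_iff_card.1 hZ
      rw [hc]
      exact dvd_pow_self p (by omega)
    obtain ⟨z, hz⟩ := exists_prime_orderOf_dvd_card' p hdvd
    have hzc : ∀ g : P, Commute g (z : P) := fun g => Subgroup.mem_center_iff.1 z.2 g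
    have hzo : orderOf (z : P) = p := by rw [Subgroup.orderOf_coe, hz]
    by_cases hzX : (z : P) ∈ Subgroup.zpowers X
    · -- `X` is central; take an element of order `p` in the quotient
      have hXc : ∀ g : P, Commute g X := by
        have h1 : Subgroup.zpowers X = Subgroup.zpowers (z : P) := by
          refine (Subgroup.eq_of_le_of_card_ge (Subgroup.zpowers_le.2 hzX) ?_).symm
          rw [Nat.card_zpowers, Nat.card_zpowers, hXo, hzo]
        intro g
        have h2 : X ∈ Subgroup.zpowers (z : P) := by rw [← h1]; exact Subgroup.mem_zpowers X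
        obtain ⟨k, hk⟩ := Subgroup.mem_zpowers_iff.1 h2
        rw [← hk]
        exact (hzc g).zpow_right k
      have hnor : (Subgroup.zpowers X).Normal := by
        constructor
        intro w hw g
        obtain ⟨k, rfl⟩ := Subgroup.mem_zpowers_iff.1 hw
        have h1 : g * X ^ k * g⁻¹ = X ^ k := by
          rw [((hXc g).zpow_right k).eq, mul_inv_cancel_right]
        rw [h1]
        exact hw
      have hidx : p ∣ Nat.card (P ⧸ Subgroup.zpowers X) := by
        have h1 : Nat.card P = Nat.card (P ⧸ Subgroup.zpowers X) * Nat.card (Subgroup.zpowers X) :=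
          Subgroup.card_eq_card_quotient_mul_card_subgroup _
        rw [Nat.card_zpowers, hXo] at h1
        rw [h1, pow_two] at hcP
        exact Nat.dvd_of_mul_dvd_mul_right hp.out.pos hcP
      obtain ⟨q, hq⟩ := exists_prime_orderOf_dvd_card' p hidx
      obtain ⟨t, rfl⟩ := QuotientGroup.mk_surjective q
      refine ⟨((t : H) : Perm Ω), (t : H).2, ?_, ?_, ?_⟩
      · exact congrArg (fun z : P => ((z : H) : Perm Ω)) (hXc t).symm.eq
      · rintro ⟨k, hk⟩
        have h1 : X ^ k = t := by
          apply Subtype.ext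
          apply Subtype.ext
          rw [← hk]
          simp [X]
        have h2 : (t : P ⧸ Subgroup.zpowers X) = 1 := by
          rw [QuotientGroup.eq_one_iff, ← h1]
          exact Subgroup.zpow_mem _ (Subgroup.mem_zpowers X) k
        rw [h2, orderOf_one] at hq
        exact hp.out.one_lt.ne hq
      · have h1 : (t : P ⧸ Subgroup.zpowers X) ^ p = 1 := orderOf_dvd_iff_pow_eq_one.1 hq.dvd
        rw [← QuotientGroup.mk_pow, QuotientGroup.eq_one_iff] at h1
        obtain ⟨k, hk⟩ := Subgroup.mem_zpowers_iff.1 h1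
        refine Subgroup.mem_zpowers_iff.2 ⟨k, ?_⟩
        have h2 := congrArg (fun z : P => ((z : H) : Perm Ω)) hk
        simpa [X] using h2
    · refine ⟨(((z : P) : H) : Perm Ω), ((z : P) : H).2, ?_, ?_, ?_⟩
      · exact congrArg (fun z : P => ((z : H) : Perm Ω)) (hzc X).eq
      · rintro ⟨k, hk⟩
        apply hzX
        refine Subgroup.mem_zpowers_iff.2 ⟨k, ?_⟩
        apply Subtype.ext
        apply Subtype.ext
        rw [← hk]
        simp [X]
      · have h1 : (z : P) ^ p = 1 := orderOf_dvd_iff_pow_eq_one.1 hzo.dvd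
        have h2 := congrArg (fun z : P => ((z : H) : Perm Ω)) h1
        have h3 : (((z : P) : H) : Perm Ω) ^ p = 1 := by simpa using h2
        rw [h3]
        exact Subgroup.one_mem _
  obtain ⟨k, hk⟩ := Subgroup.mem_zpowers_iff.1 htp
  -- `t ^ p` is trivial on `supp x`
  have ht1 : t ^ p = 1 := by
    obtain ⟨a0, ha0⟩ : ∃ a, x a ≠ a := by
      by_contra h
      push Not at h
      exact hx1 (Equiv.ext h)
    obtain ⟨i, hi⟩ := exists_zpow hp.out hxp (by rw [hx.2.2]; exact D.lt) htx ⟨k, hk.symm⟩ ha0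
    have h1 : ∀ n : ℕ, (t ^ n) a0 = (x ^ (i * n)) a0 := by
      intro n
      induction n with
      | zero => simp
      | succ n ih =>
        have hc : Commute (x ^ (i * n)) t := htx.zpow_left _
        rw [pow_succ', Perm.mul_apply, ih, ← Perm.mul_apply, ← hc.eq, Perm.mul_apply, hi, ← Perm.mul_apply,
          ← zpow_add]
        congr 2
        push_cast
        ring
    have h2 := h1 p
    have h5 : x ^ (i * (p : ℤ)) = 1 := by rw [mul_comm, zpow_mul, zpow_natCast, hxp, one_zpow]
    rw [h5, ← hk] at h2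
    have h3 : x ^ k = 1 := by
      by_contra h4
      obtain ⟨b, hb⟩ : ∃ b, (x ^ k) b ≠ b := by
        by_contra h
        push Not at h
        exact h4 (Equiv.ext h)
      exact zpow_ne hp.out hxp hb ha0 h2
    rw [← hk, h3]
  obtain ⟨i, hi⟩ := D.exists_zpow_of_commute hx htH ht1 htx
  set w : Perm Ω := x ^ (-i) * t with hw
  have hwH : w ∈ H := H.mul_mem (H.zpow_mem hx.1 _) htH
  have hwp : w ^ p = 1 := by
    have hc : Commute (x ^ (-i)) t := htx.zpow_left _
    rw [hw, hc.mul_pow, ht1, mul_one, ← zpow_natCast, ← zpow_mul, mul_comm, zpow_mul, zpow_natCast, hxp, one_zpow]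
  have hwo : orderOf w = p := by
    refine (Nat.dvd_prime hp.out).1 (orderOf_dvd_of_pow_eq_one hwp) |>.resolve_left ?_
    intro h
    rw [orderOf_eq_one_iff, hw] at h
    apply htn
    refine Subgroup.mem_zpowers_iff.2 ⟨i, ?_⟩
    rw [zpow_neg, inv_mul_eq_one] at h
    exact h
  have hdis : Disjoint x.support w.support := by
    rw [Finset.disjoint_left]
    intro b hb hb'
    rw [mem_support] at hb hb'
    apply hb'
    rw [hw, Perm.mul_apply, hi b hb, ← Perm.mul_apply, ← zpow_add, neg_add_cancel]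
    rfl
  have h1 := D.min w hwH hwo
  have h2 := Finset.card_le_univ (x.support ∪ w.support)
  rw [Finset.card_union_of_disjoint hdis, hx.2.2] at h2
  omega

end MinData

end Cfsg.Agent.H426.FC
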